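import Groth.Agent.Flat2F.R1Nak
import Groth.Agent.CurvesB.SubClosed
import Groth.Agent.CurvesB.HZero
import Groth.Agent.VarietyB.PullSec
import Groth.Agent.VarietyB.FlatH0
import Groth.Agent.Ega3B.EqzSections
import Groth.Agent.Fdesc.LocGenPullback
import Groth.Agent.FormalA.PullbackQC
import Groth.Agent.S0002

/-!
# Lifting sections from a fibre of dimension at most one without flatness

`X` proper over `Spec A`, `φ : A ⟶ B` surjective, `Z = X ×_A B`, `i : Z ⟶ X`, `N` a quasi-coherent module on `X`.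
* `epi_desc_mulKer`: the kernel of `N ⟶ i_* i^* N` is generated by multiplication by elements of `ker φ`.
-/

set_option autoImplicit false
universe u

open CategoryTheory CategoryTheory.Limits AlgebraicGeometry Opposite TopologicalSpace

namespace K250.FibreLift

open Groth.Agent Groth.Agent.CohqB.HSeqMod Groth.Agent.FormalB.PrincLin Groth.Agent.Flat2F.R1NakA
open Groth.Agent.Flat2F.R1NakB (SumProp)
open Groth.Agent.CurvesB.SubClosed (unitι)

section Alg

open TensorProduct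

variable {R S : Type u} [CommRing R] [CommRing S] [Algebra R S] {M N : Type u} [AddCommGroup M]
  [Module R M] [AddCommGroup N] [Module R N] [Module S N] [IsScalarTower R S N]

theorem mem_ker_smul_of_isBaseChange (hS : Function.Surjective (algebraMap R S)) {f : M →ₗ[R] N}
    (hf : IsBaseChange S f) {m : M} (hm : f m = 0) :
    m ∈ RingHom.ker (algebraMap R S) • (⊤ : Submodule R M) := by
  have h1 : (1 : S) ⊗ₜ[R] m = 0 := by
    apply hf.equiv.injective
    rw [hf.equiv_tmul, hm, smul_zero, map_zero]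
  have hex : Function.Exact (RingHom.ker (algebraMap R S)).subtype (Algebra.linearMap R S) := by
    rw [LinearMap.exact_iff]
    ext x
    rw [Submodule.range_subtype]
    rfl
  have h2 := rTensor_exact M hex hS
  have h3 : (Algebra.linearMap R S).rTensor M ((1 : R) ⊗ₜ m) = 0 := by
    rw [LinearMap.rTensor_tmul, Algebra.linearMap_apply, map_one, h1]
  obtain ⟨y, hy⟩ := (h2 _).1 h3
  have key : ∀ y : RingHom.ker (algebraMap R S) ⊗[R] M,
      TensorProduct.lid R M ((RingHom.ker (algebraMap R S)).subtype.rTensor M y) ∈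
        RingHom.ker (algebraMap R S) • (⊤ : Submodule R M) := by
    intro y
    induction y using TensorProduct.induction_on with
    | zero => rw [map_zero, map_zero]; exact zero_mem _
    | tmul r m =>
      rw [LinearMap.rTensor_tmul, TensorProduct.lid_tmul]
      exact Submodule.smul_mem_smul r.2 trivial
    | add x y hx hy => rw [map_add, map_add]; exact add_mem hx hy
  have h4 := key y
  rw [hy, TensorProduct.lid_tmul, one_smul] at h4
  exact h4

end Alg

/-- Sections of `N` over an affine open which vanish on a closed subscheme. -/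
theorem mem_ker_smul {Z Z₀ : Scheme.{u}} (i : Z₀ ⟶ Z) [IsClosedImmersion i] {V : Z.Opens} (hV : IsAffineOpen V)
    (L : Z.Modules) (hL : Coh.IsQCoh L) (s : Γ(L, V)) (hs : (unitι i L).app V s = 0) :
    s ∈ RingHom.ker (i.app V).hom • (⊤ : Submodule Γ(Z, V) Γ(L, V)) := by
  have e0 : i.appLE V (i ⁻¹ᵁ V) le_rfl = i.app V := Scheme.Hom.appLE_eq_app i
  let j1 : Algebra Γ(Z, V) Γ(Z₀, i ⁻¹ᵁ V) := (i.appLE V (i ⁻¹ᵁ V) le_rfl).hom.toAlgebra
  let j2 := VarietyB.PullSec.secModule i L (le_refl (i ⁻¹ᵁ V))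
  have j3 : IsScalarTower Γ(Z, V) Γ(Z₀, i ⁻¹ᵁ V) Γ((Scheme.Modules.pullback i).obj L, i ⁻¹ᵁ V) :=
    ⟨fun a b c => by rw [Algebra.smul_def, mul_smul]; rfl⟩
  have h1 := VarietyB.PullSec.isBaseChange_secₗ i L (le_refl (i ⁻¹ᵁ V)) hL hV (hV.preimage i)
  have hS : Function.Surjective (algebraMap Γ(Z, V) Γ(Z₀, i ⁻¹ᵁ V)) := by
    change Function.Surjective (i.appLE V (i ⁻¹ᵁ V) le_rfl)
    rw [e0]
    exact i.app_surjective V hV
  have h2 : ∀ s : Γ(L, V), VarietyB.PullSec.secₗ i L (le_refl (i ⁻¹ᵁ V)) s = (unitι i L).app V s := by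
    intro s
    change ((Scheme.Modules.pullback i).obj L).presheaf.map (homOfLE (le_refl (i ⁻¹ᵁ V))).op _ = _
    exact Fdesc.QCohStalk.map_self _ _ _
  have hker : RingHom.ker (algebraMap Γ(Z, V) Γ(Z₀, i ⁻¹ᵁ V)) = RingHom.ker (i.app V).hom := by
    change RingHom.ker (i.appLE V (i ⁻¹ᵁ V) le_rfl).hom = _
    rw [e0]
  rw [← hker]
  exact mem_ker_smul_of_isBaseChange hS h1 ((h2 s).trans hs)

section Ker

variable {A B : Type u} [CommRing A] [CommRing B] (φ : A →+* B) {X Z : Scheme.{u}}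
  [X.Over (Spec (CommRingCat.of A))] {i : Z ⟶ X} {j : Z ⟶ Spec (CommRingCat.of B)} (N : X.Modules)

theorem smulMod_app (a : A) {V : X.Opens} (m : Γ(N, V)) :
    (Formal.smulMod A N a).app V m = toSec (X ↘ Spec (CommRingCat.of A)) V a • m := rfl

theorem smulMod_unit (hw : i ≫ (X ↘ Spec (CommRingCat.of A)) = j ≫ Spec.map (CommRingCat.ofHom φ)) (a : A)
    (ha : φ a = 0) : Formal.smulMod A N a ≫ unitι i N = 0 := by
  rw [CohqA.DevSub.eq_zero_iff]
  intro V s
  have e : (Formal.smulMod A N a ≫ unitι i N).app V s =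
      (unitι i N).app V (toSec (X ↘ Spec (CommRingCat.of A)) V a • s) := rfl
  rw [e, Scheme.Modules.Hom.app_smul]
  have e2 : toSec (X ↘ Spec (CommRingCat.of A)) V a • (unitι i N).app V s =
      (i.app V (toSec (X ↘ Spec (CommRingCat.of A)) V a) •
        (show Γ((Scheme.Modules.pullback i).obj N, i ⁻¹ᵁ V) from (unitι i N).app V s) :
        Γ((Scheme.Modules.pullback i).obj N, i ⁻¹ᵁ V)) := rfl
  rw [e2, app_toSec φ hw a ha V, zero_smul]
  rfl

/-- Multiplication by `a ∈ ker φ` as a map `N ⟶ ker (N ⟶ i_* i^* N)`. -/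
noncomputable def mulKer (hw : i ≫ (X ↘ Spec (CommRingCat.of A)) = j ≫ Spec.map (CommRingCat.ofHom φ))
    (a : RingHom.ker φ) : N ⟶ kernel (unitι i N) :=
  kernel.lift _ (Formal.smulMod A N (a : A)) (smulMod_unit φ N hw _ a.2)

theorem mulKer_ι (hw : i ≫ (X ↘ Spec (CommRingCat.of A)) = j ≫ Spec.map (CommRingCat.ofHom φ))
    (a : RingHom.ker φ) : mulKer φ N hw a ≫ kernel.ι (unitι i N) = Formal.smulMod A N (a : A) :=
  kernel.lift_ι _ _ _

/-- The kernel of `N ⟶ i_* i^* N` is generated by the kernel of `φ`. -/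
theorem epi_desc_mulKer (hN : Coh.IsQCoh N) (hφ : Function.Surjective φ)
    (h : IsPullback i j (X ↘ Spec (CommRingCat.of A)) (Spec.map (CommRingCat.ofHom φ))) :
    Epi (Sigma.desc (mulKer φ N h.w)) := by
  have hi : IsClosedImmersion i := MorphismProperty.of_isPullback h.flip
    (IsClosedImmersion.spec_of_surjective _ hφ)
  refine CohqA.Acyc.epi_of_surjective_affine _ fun V hV s => ?_
  have hinj : Function.Injective ((kernel.ι (unitι i N)).app V) := (CohqA.ModSec.mono_iff_injective _).1 inferInstance V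
  have hs : (unitι i N).app V ((kernel.ι (unitι i N)).app V s) = 0 := by
    have h0 : (kernel.ι (unitι i N) ≫ unitι i N).app V s = 0 := by
      rw [kernel.condition]; rfl
    exact h0
  have hm := mem_ker_smul i hV N hN _ hs
  have hI : RingHom.ker (i.app V).hom ≤
      Ideal.map (toSec (X ↘ Spec (CommRingCat.of A)) V) (RingHom.ker φ) :=
    fun r hr => mem_map_of_app_eq_zero (CommRingCat.ofHom φ) hφ h hV r hr
  have key : ∀ n : Γ(N, V), ∀ t ∈ Ideal.map (toSec (X ↘ Spec (CommRingCat.of A)) V) (RingHom.ker φ),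
      ∃ z, (Sigma.desc (mulKer φ N h.w) ≫ kernel.ι (unitι i N)).app V z = t • n := by
    intro n t ht
    refine Submodule.span_induction ?_ ?_ ?_ ?_ ht
    · rintro _ ⟨a, ha, rfl⟩
      refine ⟨(Sigma.ι (fun _ : RingHom.ker φ => N) ⟨a, ha⟩).app V n, ?_⟩
      have e1 : Sigma.ι (fun _ : RingHom.ker φ => N) ⟨a, ha⟩ ≫
          (Sigma.desc (mulKer φ N h.w) ≫ kernel.ι (unitι i N)) = Formal.smulMod A N a := by
        rw [← Category.assoc, Sigma.ι_desc, mulKer_ι]
      exact congr(($e1).app V n)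
    · exact ⟨0, by rw [map_zero, zero_smul]⟩
    · rintro x y - - ⟨z, hz⟩ ⟨w, hw⟩
      exact ⟨z + w, by rw [map_add, hz, hw, add_smul]⟩
    · rintro r x - ⟨z, hz⟩
      refine ⟨r • z, ?_⟩
      rw [Scheme.Modules.Hom.app_smul, hz, smul_eq_mul, mul_smul]
  obtain ⟨z, hz⟩ : ∃ z, (Sigma.desc (mulKer φ N h.w) ≫ kernel.ι (unitι i N)).app V z =
      (kernel.ι (unitι i N)).app V s := by
    refine Submodule.smul_induction_on hm (fun r hr n _ => key n r (hI hr)) ?_
    rintro x y ⟨z, hz⟩ ⟨w, hw⟩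
    exact ⟨z + w, by rw [map_add, hz, hw]⟩
  exact ⟨z, hinj hz⟩

end Ker

section Local

variable (A : Type u) [CommRing A] [IsLocalRing A] [IsNoetherianRing A] {X Z : Scheme.{u}}
  [X.Over (Spec (CommRingCat.of A))] [IsProper (X ↘ Spec (CommRingCat.of A))] (hX : SumProp X)
  (N : X.Modules) (hN : Coh.IsCoh N) {i : Z ⟶ X} {j : Z ⟶ Spec (CommRingCat.of (IsLocalRing.ResidueField A))}
  (h : IsPullback i j (X ↘ Spec (CommRingCat.of A)) (Spec.map (CommRingCat.ofHom (IsLocalRing.residue A))))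
  (h1 : Subsingleton (Coh.HH Z ((Scheme.Modules.pullback i).obj N) 1))

include hX hN h h1 in
/-- Over a local base, sections on the closed fibre lift if `H^1` of the closed fibre vanishes (for fibres of
dimension at most one). -/
theorem local_lift : (∀ x : Coh.HH X N 1, x = 0) ∧
    ∀ t : Γ((Scheme.Modules.pushforward i).obj ((Scheme.Modules.pullback i).obj N), ⊤),
      ∃ s : Γ(N, ⊤), (unitι i N).app ⊤ s = t := by
  have hφ : Function.Surjective (IsLocalRing.residue A) := IsLocalRing.residue_surjective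
  have hi : IsClosedImmersion i := MorphismProperty.of_isPullback h.flip
    (IsClosedImmersion.spec_of_surjective _ hφ)
  have hq : Coh.IsQCoh N := hN.1
  have hZq : Coh.IsQCoh ((Scheme.Modules.pullback i).obj N) := FormalA.PullbackQC.isQCoh_pullback i N hq
  have hQ : Coh.IsQCoh ((Scheme.Modules.pushforward i).obj ((Scheme.Modules.pullback i).obj N)) :=
    Groth.Agent.Ega1.QcqsPush.isQCoh_pushforward i _ hZq
  have hsub : Subsingleton (Coh.HH X ((Scheme.Modules.pushforward i).obj ((Scheme.Modules.pullback i).obj N)) 1) := by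
    obtain ⟨e⟩ := S0012.result i ((Scheme.Modules.pullback i).obj N) 1
    exact e.symm.toEquiv.subsingleton
  have hK : Coh.IsQCoh (kernel (unitι i N)) := PerfA.QCohSerre.isQCoh_kernel (unitι i N) hq hQ
  have hS := VarietyA.StalkCrit.shortExact_kernel (unitι i N)
  have hsum : ∀ y : Coh.HH X (kernel (unitι i N)) 1, ∃ (s : Finset (RingHom.ker (IsLocalRing.residue A)))
      (z : RingHom.ker (IsLocalRing.residue A) → Coh.HH X N 1),
      y = ∑ a ∈ s, hmap (mulKer (IsLocalRing.residue A) N h.w a) 1 (z a) := fun y =>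
    hX (F := fun _ : RingHom.ker (IsLocalRing.residue A) => N) (fun _ => hq) hK
      (mulKer (IsLocalRing.residue A) N h.w) (epi_desc_mulKer _ N hq hφ h) y
  have h2 : ∀ x : Coh.HH X N 1, x ∈ IsLocalRing.maximalIdeal A • (⊤ : Submodule A (Coh.HH X N 1)) := by
    intro x
    obtain ⟨y, hy⟩ := exact₂ hS 1 x (Subsingleton.elim _ _)
    obtain ⟨s, z, hz⟩ := hsum y
    rw [← hy, hz, map_sum]
    refine Submodule.sum_mem _ fun a _ => ?_
    have e : hmap (kernel.ι (unitι i N)) 1 (hmap (mulKer (IsLocalRing.residue A) N h.w a) 1 (z a)) =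
        (a : A) • z a := by
      rw [← hmap_comp_apply, mulKer_ι, hmap_smulMod]
    refine e ▸ Submodule.smul_mem_smul ?_ Submodule.mem_top
    rw [← IsLocalRing.ker_residue]
    exact a.2
  have hfin : Module.Finite A (Coh.HH X N 1) := S0002.result A X N hN 1
  have h3 : (⊤ : Submodule A (Coh.HH X N 1)) = ⊥ := by
    refine Submodule.eq_bot_of_le_smul_of_le_jacobson_bot (IsLocalRing.maximalIdeal A) ⊤ hfin.fg_top
      (fun x _ => h2 x) ?_
    exact IsLocalRing.maximalIdeal_le_jacobson _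
  have h4 : ∀ x : Coh.HH X N 1, x = 0 := fun x => by
    have : x ∈ (⊤ : Submodule A (Coh.HH X N 1)) := trivial
    rw [h3] at this
    exact this
  have h5 : ∀ y : Coh.HH X (kernel (unitι i N)) 1, y = 0 := by
    intro y
    obtain ⟨s, z, hz⟩ := hsum y
    rw [hz]
    refine Finset.sum_eq_zero fun a _ => ?_
    rw [h4 (z a), map_zero]
  refine ⟨h4, fun t => ?_⟩
  obtain ⟨y, hy⟩ := exact₃ hS 0 ((CurvesB.HZero.equivAdd _).symm t) (h5 _)
  refine ⟨CurvesB.HZero.equivAdd N y, ?_⟩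
  have h6 := CurvesB.HZero.equivAdd_map (unitι i N) y
  rw [← h6]
  exact (congrArg _ hy).trans ((CurvesB.HZero.equivAdd _).apply_symm_apply t)

end Local

section Denominator

open Groth.Agent.Fdesc.LocGen (pullSec)
open Groth.Agent.Ega3B.EqzSections (secMap)

/-- A span over a localization consists of fractions. -/
theorem exists_den {A B M M' : Type u} [CommRing A] [CommRing B] [Algebra A B] (p : Ideal A) [p.IsPrime]
    (hB : ∀ c : B, ∃ r s : A, s ∉ p ∧ c * algebraMap A B s = algebraMap A B r)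
    [AddCommGroup M] [Module A M] [AddCommGroup M'] [Module B M']
    (f : M →ₛₗ[algebraMap A B] M')
    (hf : Function.Surjective (VarietyB.BCAlg.bc f)) (y : M') :
    ∃ (a : A) (m : M), a ∉ p ∧ f m = algebraMap A B a • y := by
  obtain ⟨x, rfl⟩ := hf y
  induction x with
  | zero => exact ⟨1, 0, p.one_notMem, by rw [map_zero, map_zero, smul_zero]⟩
  | add x y hx hy =>
    obtain ⟨a, m, ha, hm⟩ := hx
    obtain ⟨b, n, hb, hn⟩ := hy
    refine ⟨a * b, b • m + a • n, fun h => (‹p.IsPrime›.mem_or_mem h).elim ha hb, ?_⟩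
    rw [map_add, map_smulₛₗ, map_smulₛₗ, hm, hn, map_add, smul_add, map_mul, smul_smul, smul_smul,
      mul_comm (algebraMap A B b)]
  | tmul c m =>
    obtain ⟨r, s, hs, hrs⟩ := hB c
    refine ⟨s, r • m, hs, ?_⟩
    rw [VarietyB.BCAlg.bc_tmul, smul_smul, map_smulₛₗ, mul_comm, ← hrs]

theorem exists_den' {A B M M' : Type u} [CommRing A] [CommRing B] (φ : A →+* B) (p : Ideal A) [p.IsPrime]
    (hB : ∀ c : B, ∃ r s : A, s ∉ p ∧ c * φ s = φ r)
    [AddCommGroup M] [Module A M] [AddCommGroup M'] [Module B M'] (f : M →ₛₗ[φ] M')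
    (hf : @Function.Surjective _ _ (@VarietyB.BCAlg.bc A B _ _ φ.toAlgebra M _ _ M' _ _ f)) (y : M') :
    ∃ (a : A) (m : M), a ∉ p ∧ f m = φ a • y := by
  let _ := φ.toAlgebra
  exact exists_den p hB f hf y

variable {A : Type u} [CommRing A] {X X' : Scheme.{u}}

theorem exists_denominator (p : Ideal A) [p.IsPrime] {iX : X ⟶ Spec (CommRingCat.of A)} [CompactSpace X]
    [QuasiSeparatedSpace X] {g' : X' ⟶ X} {q' : X' ⟶ Spec (CommRingCat.of (Localization.AtPrime p))}
    (H : IsPullback g' q' iX (Spec.map (CommRingCat.ofHom (algebraMap A (Localization.AtPrime p)))))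
    (N : X.Modules) (hN : Coh.IsQCoh N) (t : Γ((Scheme.Modules.pullback g').obj N, g' ⁻¹ᵁ ⊤)) :
    ∃ (a : A) (s : Γ(N, ⊤)), a ∉ p ∧
      pullSec g' s = secMap q' (g' ⁻¹ᵁ ⊤) (algebraMap A (Localization.AtPrime p) a) • t := by
  have hfl : (CommRingCat.ofHom (algebraMap A (Localization.AtPrime p))).hom.Flat := by
    rw [CommRingCat.hom_ofHom, RingHom.flat_algebraMap_iff]
    exact IsLocalization.flat _ p.primeCompl
  have h1 := VarietyB.FlatH0.bijective_bc_secSpec H hfl N hN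
  have hB : ∀ c : Localization.AtPrime p, ∃ r s : A, s ∉ p ∧
      c * algebraMap A (Localization.AtPrime p) s = algebraMap A (Localization.AtPrime p) r := by
    intro c
    obtain ⟨⟨r, s⟩, hrs⟩ := IsLocalization.surj p.primeCompl c
    exact ⟨r, s.1, s.2, hrs⟩
  have happ : q'.appLE ⊤ (g' ⁻¹ᵁ ⊤) (Ega3B.EqzSections.le_preimage_top q' _) = q'.appTop :=
    (Scheme.Hom.app_eq_appLE _).symm
  have e : ∀ a : A, secMap q' (g' ⁻¹ᵁ ⊤) (algebraMap A (Localization.AtPrime p) a) =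
      q'.appTop ((Scheme.ΓSpecIso (CommRingCat.of (Localization.AtPrime p))).inv
        (algebraMap A (Localization.AtPrime p) a)) := by
    intro a
    rw [← happ]
    rfl
  suffices hsuff : ∃ (a : A) (s : Γ(N, ⊤)), a ∉ p ∧ ∀ σ : Γ(X', g' ⁻¹ᵁ ⊤),
      σ = q'.appTop ((Scheme.ΓSpecIso (CommRingCat.of (Localization.AtPrime p))).inv
        (algebraMap A (Localization.AtPrime p) a)) → pullSec g' s = σ • t by
    obtain ⟨a, s, ha, hs⟩ := hsuff
    exact ⟨a, s, ha, hs _ (e a)⟩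
  let _ := VarietyB.FlatH0.modSpec iX N
  let _ := VarietyB.FlatH0.modSpec q' ((Scheme.Modules.pullback g').obj N)
  obtain ⟨a, m, ha, hm⟩ := exists_den' (A := CommRingCat.of A)
    (B := CommRingCat.of (Localization.AtPrime p))
    (CommRingCat.ofHom (algebraMap A (Localization.AtPrime p))).hom p hB
    (VarietyB.FlatH0.secSpec H.w N) h1.2 t
  refine ⟨a, m, ha, fun σ hσ => ?_⟩
  subst hσ
  refine Eq.trans ?_ hm
  exact (Fdesc.QCohStalk.map_self _ _ _).symm

end Denominator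

section Global

open Groth.Agent.Fdesc.LocGen (pullSec pullSec_comp' pullSec_smul)
open Groth.Agent.Ega3B.EqzSections (secMap)

theorem app_secMap {A B : Type u} [CommRing A] [CommRing B] (φ : A →+* B) {X Z : Scheme.{u}} (k : Z ⟶ X)
    (q : X ⟶ Spec (CommRingCat.of A)) (q' : Z ⟶ Spec (CommRingCat.of B))
    (w : k ≫ q = q' ≫ Spec.map (CommRingCat.ofHom φ)) (V : X.Opens) (a : A) :
    k.app V (secMap q V a) = secMap q' (k ⁻¹ᵁ V) (φ a) := by
  have e1 := Scheme.Hom.appLE_comp_appLE k q ⊤ V (k ⁻¹ᵁ V) le_top le_rfl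
  have e2 := Scheme.Hom.appLE_comp_appLE q' (Spec.map (CommRingCat.ofHom φ)) ⊤ ⊤ (k ⁻¹ᵁ V) le_top le_top
  have h1 : q.appLE ⊤ V le_top ≫ k.appLE V (k ⁻¹ᵁ V) le_rfl =
      (Spec.map (CommRingCat.ofHom φ)).appLE ⊤ ⊤ le_top ≫ q'.appLE ⊤ (k ⁻¹ᵁ V) le_top := by
    refine e1.trans (Eq.trans ?_ e2.symm)
    congr 1
  have h2 : k.app V (secMap q V a) =
      (q.appLE ⊤ V le_top ≫ k.appLE V (k ⁻¹ᵁ V) le_rfl) ((Scheme.ΓSpecIso (CommRingCat.of A)).inv a) := by
    rw [Scheme.Hom.appLE_eq_app k]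
    rfl
  have hnat : (Scheme.ΓSpecIso (CommRingCat.of A)).inv ≫ (Spec.map (CommRingCat.ofHom φ)).appLE ⊤ ⊤ le_top =
      CommRingCat.ofHom φ ≫ (Scheme.ΓSpecIso (CommRingCat.of B)).inv := by
    rw [Scheme.ΓSpecIso_inv_naturality]
    congr 1
  have h3 := congr($hnat a)
  rw [h2, h1, CommRingCat.comp_apply]
  have h4 : (Spec.map (CommRingCat.ofHom φ)).appLE ⊤ ⊤ le_top ((Scheme.ΓSpecIso (CommRingCat.of A)).inv a) =
      (Scheme.ΓSpecIso (CommRingCat.of B)).inv (φ a) := h3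
  rw [h4]
  rfl

variable {A : Type u} [CommRing A] [IsNoetherianRing A] {X : Scheme.{u}}
  [X.Over (Spec (CommRingCat.of A))] [IsProper (X ↘ Spec (CommRingCat.of A))]

/-- Sections of a coherent module on a fibre lift to `X` up to an element off the prime, when `H^1` of the fibre
vanishes and all fibres have dimension at most one. No flatness. -/
theorem exists_sec_lift (hd : ∀ y, topologicalKrullDim ((X ↘ Spec (CommRingCat.of A)).fiber y) ≤ 1)
    (N : X.Modules) (hN : Coh.IsCoh N) (p : Ideal A) [p.IsPrime] {Z : Scheme.{u}} {g : Z ⟶ X}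
    {q : Z ⟶ Spec (CommRingCat.of p.ResidueField)}
    (H : IsPullback g q (X ↘ Spec (CommRingCat.of A)) (Spec.map (CommRingCat.ofHom (algebraMap A p.ResidueField))))
    (h1 : Subsingleton (Coh.HH Z ((Scheme.Modules.pullback g).obj N) 1))
    (t0 : Γ((Scheme.Modules.pullback g).obj N, g ⁻¹ᵁ ⊤)) :
    ∃ (a : A) (s : Γ(N, ⊤)), a ∉ p ∧
      pullSec g s = secMap q (g ⁻¹ᵁ ⊤) (algebraMap A p.ResidueField a) • t0 := by
  have hXc : CompactSpace X := QuasiCompact.compactSpace_of_compactSpace (X ↘ Spec (CommRingCat.of A))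
  have hXs : QuasiSeparatedSpace X := quasiSeparatedSpace_of_quasiSeparated (X ↘ Spec (CommRingCat.of A))
  have H' : IsPullback (pullback.fst (X ↘ Spec (CommRingCat.of A)) (Spec.map (CommRingCat.ofHom
      (algebraMap A (Localization.AtPrime p))))) (pullback.snd _ _) (X ↘ Spec (CommRingCat.of A))
      (Spec.map (CommRingCat.ofHom (algebraMap A (Localization.AtPrime p)))) := IsPullback.of_hasPullback _ _
  generalize pullback.fst (X ↘ Spec (CommRingCat.of A)) (Spec.map (CommRingCat.ofHom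
      (algebraMap A (Localization.AtPrime p)))) = g' at H'
  generalize pullback.snd (X ↘ Spec (CommRingCat.of A)) (Spec.map (CommRingCat.ofHom
      (algebraMap A (Localization.AtPrime p)))) = q' at H'
  generalize pullback (X ↘ Spec (CommRingCat.of A)) (Spec.map (CommRingCat.ofHom
      (algebraMap A (Localization.AtPrime p)))) = X' at g' q' H'
  let _ : X'.Over (Spec (CommRingCat.of (Localization.AtPrime p))) := ⟨q'⟩
  have hpr : IsProper (X' ↘ Spec (CommRingCat.of (Localization.AtPrime p))) :=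
    MorphismProperty.of_isPullback (P := @IsProper) H' inferInstance
  have hd' : ∀ y, topologicalKrullDim ((X' ↘ Spec (CommRingCat.of (Localization.AtPrime p))).fiber y) ≤ 1 := by
    intro y
    have e := Flat2G.ProperDim.topologicalKrullDim_fiber_baseChange (X ↘ Spec (CommRingCat.of A)) q' g' _ H' y
    exact e.trans_le (hd _)
  have hX' : SumProp X' := Flat2F.R1Nak.sumProp (X' ↘ Spec (CommRingCat.of (Localization.AtPrime p))) hd'
  have hcomp : Spec.map (CommRingCat.ofHom (algebraMap A p.ResidueField)) =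
      Spec.map (CommRingCat.ofHom (IsLocalRing.residue (Localization.AtPrime p))) ≫
        Spec.map (CommRingCat.ofHom (algebraMap A (Localization.AtPrime p))) := by
    rw [← Spec.map_comp]
    rfl
  rw [hcomp] at H
  have H2 := IsPullback.of_right' H H'
  have hk := H'.lift_fst g (q ≫ Spec.map (CommRingCat.ofHom (IsLocalRing.residue (Localization.AtPrime p))))
    (by rw [H.w, Category.assoc])
  generalize H'.lift g (q ≫ Spec.map (CommRingCat.ofHom (IsLocalRing.residue (Localization.AtPrime p))))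
    (by rw [H.w, Category.assoc]) = k at H2 hk
  subst hk
  let c := (Scheme.Modules.pullbackComp k g').app N
  have hN' : Coh.IsCoh ((Scheme.Modules.pullback g').obj N) := FormalA.PullbackQC.isCoh_pullback g' N hN
  have h1' : Subsingleton (Coh.HH Z ((Scheme.Modules.pullback k).obj ((Scheme.Modules.pullback g').obj N)) 1) :=
    CohqA.DirectSum.subsingleton_of_iso c.symm 1 h1
  obtain ⟨-, hl⟩ := local_lift (Localization.AtPrime p) hX' ((Scheme.Modules.pullback g').obj N) hN' H2 h1'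
  obtain ⟨(s' : Γ((Scheme.Modules.pullback g').obj N, g' ⁻¹ᵁ ⊤)), hs'⟩ :=
    hl (c.inv.app (k ⁻¹ᵁ (g' ⁻¹ᵁ ⊤)) t0)
  obtain ⟨a, s, ha, hs⟩ := exists_denominator p H' N hN.1 s'
  refine ⟨a, s, ha, ?_⟩
  have e0 : c.hom.app (k ⁻¹ᵁ (g' ⁻¹ᵁ ⊤)) (pullSec k (pullSec g' s)) = pullSec (k ≫ g') s :=
    pullSec_comp' k g' s
  have e4 : pullSec k (pullSec g' s) =
      (k.app (g' ⁻¹ᵁ ⊤) (secMap q' (g' ⁻¹ᵁ ⊤) (algebraMap A (Localization.AtPrime p) a)) :
        Γ(Z, k ⁻¹ᵁ (g' ⁻¹ᵁ ⊤))) • pullSec k s' :=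
    (congrArg (pullSec k) hs).trans (pullSec_smul k _ s')
  have e5 : c.hom.app (k ⁻¹ᵁ (g' ⁻¹ᵁ ⊤)) ((k.app (g' ⁻¹ᵁ ⊤) (secMap q' (g' ⁻¹ᵁ ⊤)
        (algebraMap A (Localization.AtPrime p) a)) : Γ(Z, k ⁻¹ᵁ (g' ⁻¹ᵁ ⊤))) • pullSec k s') =
      (k.app (g' ⁻¹ᵁ ⊤) (secMap q' (g' ⁻¹ᵁ ⊤) (algebraMap A (Localization.AtPrime p) a)) :
        Γ(Z, k ⁻¹ᵁ (g' ⁻¹ᵁ ⊤))) • c.hom.app (k ⁻¹ᵁ (g' ⁻¹ᵁ ⊤)) (pullSec k s') :=
    Scheme.Modules.Hom.app_smul _ _ _
  refine e0.symm.trans ((congrArg (c.hom.app (k ⁻¹ᵁ (g' ⁻¹ᵁ ⊤))) e4).trans (e5.trans ?_))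
  have e1 : pullSec k s' = c.inv.app (k ⁻¹ᵁ (g' ⁻¹ᵁ ⊤)) t0 := hs'
  have e2 : c.hom.app (k ⁻¹ᵁ (g' ⁻¹ᵁ ⊤)) (c.inv.app (k ⁻¹ᵁ (g' ⁻¹ᵁ ⊤)) t0) = t0 :=
    congr(($(c.inv_hom_id)).app (k ⁻¹ᵁ (g' ⁻¹ᵁ ⊤)) t0)
  have e3 := app_secMap (IsLocalRing.residue (Localization.AtPrime p)) k q' q H2.w (g' ⁻¹ᵁ ⊤)
    (algebraMap A (Localization.AtPrime p) a)
  rw [e1]
  refine (congrArg₂ (· • ·) e3 e2).trans ?_
  rfl

end Global

end K250.FibreLift
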