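import Groth.Agent.Flat2F.WeaklyEtaleLocal
import Mathlib.AlgebraicGeometry.AffineScheme

/-!
# Flat diagonals and stalks
-/

set_option autoImplicit false
set_option linter.style.haveILetI false
universe u

open AlgebraicGeometry CategoryTheory Limits

namespace K250.DiagFlat

open Groth.Agent.Flat2F.WeaklyEtaleLocal

set_option backward.isDefEq.respectTransparency.types false in
instance hasOfPostcomp : (MorphismProperty.diagonal @Flat : MorphismProperty Scheme.{u}).HasOfPostcompProperty
    @IsOpenImmersion := by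
  rw [MorphismProperty.hasOfPostcompProperty_iff_le_diagonal]
  intro X Y f hf
  have h1 : IsOpenImmersion f := hf
  have h2 : IsIso (pullback.diagonal f) := inferInstance
  have h3 : IsIso (pullback.diagonal (pullback.diagonal f)) := inferInstance
  exact (inferInstance : Flat (pullback.diagonal (pullback.diagonal f)))

set_option backward.isDefEq.respectTransparency.types false in
/-- The multiplication map of the affine pieces of a morphism with flat diagonal is flat. -/
theorem flat_lmul'_appLE {X Y : Scheme.{u}} (f : X ⟶ Y) (hf : Flat (pullback.diagonal f)) {U : X.Opens} {V : Y.Opens}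
    (hU : IsAffineOpen U) (hV : IsAffineOpen V) (hUV : U ≤ f ⁻¹ᵁ V) :
    letI := (f.appLE V U hUV).hom.toAlgebra
    (Algebra.TensorProduct.lmul' (S := Γ(X, U)) Γ(Y, V)).toRingHom.Flat := by
  have h0 : (MorphismProperty.diagonal @Flat : MorphismProperty Scheme.{u}) (hU.fromSpec ≫ f) := by
    refine MorphismProperty.comp_mem _ hU.fromSpec f ?_ hf
    have h2 : IsIso (pullback.diagonal hU.fromSpec) := inferInstance
    exact (inferInstance : Flat (pullback.diagonal hU.fromSpec))
  rw [← IsAffineOpen.SpecMap_appLE_fromSpec f hV hU hUV] at h0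
  have h1 : (MorphismProperty.diagonal @Flat : MorphismProperty Scheme.{u}) (Spec.map (f.appLE V U hUV)) :=
    MorphismProperty.of_postcomp (W' := @IsOpenImmersion) _ _ hV.fromSpec inferInstance h0
  change Flat (pullback.diagonal (Spec.map (f.appLE V U hUV))) at h1
  letI := (f.appLE V U hUV).hom.toAlgebra
  have h := diagonal_SpecMap Γ(Y, V) Γ(X, U)
  change pullback.diagonal (Spec.map (f.appLE V U hUV)) = _ at h
  rw [h, MorphismProperty.cancel_right_of_respectsIso (P := @Flat), Flat.SpecMap_iff] at h1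
  exact h1

/-- The multiplication map of the stalks of a morphism with flat diagonal is flat. -/
theorem flat_lmul'_stalk {X Y : Scheme.{u}} (f : X ⟶ Y) (hf : Flat (pullback.diagonal f)) (x : X) :
    letI := (f.stalkMap x).hom.toAlgebra
    (Algebra.TensorProduct.lmul' (S := X.presheaf.stalk x) (Y.presheaf.stalk (f x))).toRingHom.Flat := by
  obtain ⟨V, hV, hxV, -⟩ := exists_isAffineOpen_mem_and_subset (X := Y) (x := f x) (U := ⊤) trivial
  obtain ⟨U, hU, hxU, hUV⟩ := exists_isAffineOpen_mem_and_subset (X := X) (x := x) (U := f ⁻¹ᵁ V) hxV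
  letI := (f.appLE V U hUV).hom.toAlgebra
  letI := (f.stalkMap x).hom.toAlgebra
  letI := X.presheaf.algebra_section_stalk ⟨x, hxU⟩
  letI := Y.presheaf.algebra_section_stalk ⟨f x, hxV⟩
  letI : Algebra Γ(Y, V) (X.presheaf.stalk x) :=
    ((f.stalkMap x).hom.comp (algebraMap Γ(Y, V) (Y.presheaf.stalk (f x)))).toAlgebra
  have : IsScalarTower Γ(Y, V) (Y.presheaf.stalk (f x)) (X.presheaf.stalk x) :=
    IsScalarTower.of_algebraMap_eq' rfl
  have : IsScalarTower Γ(Y, V) Γ(X, U) (X.presheaf.stalk x) := by
    refine IsScalarTower.of_algebraMap_eq' ?_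
    have h := Scheme.Hom.germ_stalkMap f V x hxV
    have h2 : X.presheaf.germ (f ⁻¹ᵁ V) x hxV =
        X.presheaf.map (homOfLE (show U ≤ f ⁻¹ᵁ V from hUV)).op ≫ X.presheaf.germ U x hxU :=
      (X.presheaf.germ_res (homOfLE (show U ≤ f ⁻¹ᵁ V from hUV)) x hxU).symm
    rw [h2, ← Category.assoc] at h
    exact congr(($h).hom)
  have := hV.isLocalization_stalk ⟨f x, hxV⟩
  have := hU.isLocalization_stalk ⟨x, hxU⟩
  rw [flat_lmul'_iff_of_isLocalization (R := Γ(Y, V)) (hV.primeIdealOf ⟨f x, hxV⟩).asIdeal.primeCompl]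
  exact flat_lmul'_of_isLocalization (S := Γ(X, U)) (hU.primeIdealOf ⟨x, hxU⟩).asIdeal.primeCompl
    (flat_lmul'_appLE f hf hU hV hUV)

end K250.DiagFlat
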