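import Groth.Agent.SDiv.K470.RegImmAt
import Groth.Agent.SDiv.K473.RegImmCalc
import Groth.Agent.RegImm.K560.Stalk
import Groth.Agent.EGA41.K104.QuasiReg

/-!
# Stalk criterion for regular immersions of any kind into locally Noetherian schemes
-/

set_option autoImplicit false
universe u

open CategoryTheory CategoryTheory.Limits AlgebraicGeometry TopologicalSpace
open RingTheory.Sequence

namespace K250.RegStalk

/-- the kernel of `φ` is generated by a regular sequence -/
def RegKer {R S : Type u} [CommRing R] [CommRing S] (φ : R →+* S) : Prop :=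
  ∃ rs : List R, IsRegular R rs ∧ RingHom.ker φ = Ideal.ofList rs

theorem RegKer.of_ringEquiv {R S R' S' : Type u} [CommRing R] [CommRing S] [CommRing R'] [CommRing S']
    [Nontrivial S] (e : R ≃+* R') (e' : S ≃+* S') {φ : R →+* S} {ψ : R' →+* S'}
    (h : ψ.comp e.toRingHom = e'.toRingHom.comp φ) (hφ : RegKer φ) : RegKer ψ := by
  have : Nontrivial S' := e'.symm.toEquiv.nontrivial
  obtain ⟨rs, hrs, hk⟩ := hφ
  have h1 : RingHom.ker ψ = Ideal.ofList (rs.map e.toRingHom) := by
    rw [← Ideal.map_ofList, ← hk]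
    ext y
    obtain ⟨x, rfl⟩ := e.surjective y
    have h2 : ψ (e x) = e' (φ x) := congr($h x)
    rw [RingHom.mem_ker, h2, EmbeddingLike.map_eq_zero_iff, ← RingHom.mem_ker]
    constructor
    · intro hx
      exact Ideal.mem_map_of_mem e.toRingHom hx
    · intro hx
      obtain ⟨x', hx', h3⟩ := (Ideal.mem_map_iff_of_surjective e.toRingHom e.surjective).1 hx
      have : x' = x := e.injective h3
      exact this ▸ hx'
  refine ⟨_, (Groth.Agent.Divis.RegImm.isRegular_iff_ne_top _).2
    ⟨Groth.Agent.Divis.RegImm.isWeaklyRegular_map_of_flat e.toRingHom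
      (RingHom.Flat.of_bijective e.bijective) hrs.1, ?_⟩, h1⟩
  rw [← h1]
  exact RingHom.ker_ne_top _

theorem RegKer.of_arrowIso {R S R' S' : CommRingCat.{u}} {φ : R ⟶ S} {ψ : R' ⟶ S'} [Nontrivial S]
    (e : Arrow.mk φ ≅ Arrow.mk ψ) (hφ : RegKer φ.hom) : RegKer ψ.hom := by
  let e1 : R ≅ R' := Arrow.leftFunc.mapIso e
  let e2 : S ≅ S' := Arrow.rightFunc.mapIso e
  have h : e1.hom ≫ ψ = φ ≫ e2.hom := e.hom.w
  refine RegKer.of_ringEquiv e1.commRingCatIsoToRingEquiv e2.commRingCatIsoToRingEquiv ?_ hφ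
  exact congr(($h).hom)

variable {Z X : Scheme.{u}}

/-- Immersions into locally Noetherian schemes whose stalk kernel is generated by a regular sequence. -/
theorem isRegularImmersionAt_of_regKer (i : Z ⟶ X) [IsImmersion i] [IsLocallyNoetherian X] (z : Z)
    (h : RegKer (i.stalkMap z).hom) (k : RegImm.Kind) : RegImm.IsRegularImmersionAt k i z := by
  have hcl := K470.RegImmAt.isClosedImmersion_restrict_coborderRange i
  have hz : i z ∈ i.coborderRange := subset_coborder ⟨z, rfl⟩
  have h1 : RegImm.IsRegularImmersionAt .regular i z := by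
    refine K470.RegImmAt.isRegularImmersionAt_of_regAt i z i.coborderRange hz ?_
    let W := i.coborderRange
    let j := i ∣_ W
    let z' : (i ⁻¹ᵁ W : Z.Opens) := ⟨z, hz⟩
    change Groth.Agent.Divis.RegImm.RegAt j.ker (j z')
    refine (Groth.Agent.Divis.RegStalk.regAt_ker_iff j z').2 ?_
    exact RegKer.of_arrowIso (morphismRestrictStalkMap i W z').symm h
  obtain ⟨U, hzU, hcl', rs, hrs, hk⟩ := h1
  refine ⟨U, hzU, hcl', rs, ?_, hk⟩
  cases k with
  | regular => exact hrs
  | koszul => exact K473.SeqFlat.koszul_of_regular hrs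
  | h1 => exact K473.SeqFlat.h1_of_koszul (K473.SeqFlat.koszul_of_regular hrs)
  | quasi => exact K473.SeqFlat.quasi_of_h1 (K473.SeqFlat.h1_of_koszul (K473.SeqFlat.koszul_of_regular hrs))

/-- The stalk kernel of a regular immersion of any kind into a locally Noetherian scheme is generated by a
regular sequence. -/
theorem regKer_of_isRegularImmersionAt (i : Z ⟶ X) [IsLocallyNoetherian X] (z : Z)
    (k : RegImm.Kind) (h : RegImm.IsRegularImmersionAt k i z) : RegKer (i.stalkMap z).hom := by
  obtain ⟨U, hz, hcl, rs, hrs, hker⟩ := h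
  have hV := K560.Stalk.isAffineOpen_preimage i U.1 U.2 hcl
  have hs := K560.Stalk.app_surjective i U.1 U.2 hcl
  have h1 := K560.Stalk.ker_stalkMap_of_surjective i z U.1 U.2 hV hs hz
  rw [hker, Ideal.map_ofList] at h1
  have hq : RegImm.Kind.quasi.Seq Γ(X, U.1) rs := K473.RegImmCalc.quasi_of_seq k hrs
  have hne : Ideal.ofList (rs.map (X.presheaf.germ U.1 (i z) hz).hom) ≠ ⊤ := by
    rw [← h1]
    exact RingHom.ker_ne_top _
  have hflat : (X.presheaf.germ U.1 (i z) hz).hom.Flat := by
    let := X.presheaf.algebra_section_stalk ⟨i z, hz⟩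
    have := U.2.isLocalization_stalk ⟨i z, hz⟩
    exact IsLocalization.flat _ (U.2.primeIdealOf ⟨i z, hz⟩).asIdeal.primeCompl
  have hq' : RegImm.Kind.quasi.Seq (X.presheaf.stalk (i z)) (rs.map (X.presheaf.germ U.1 (i z) hz).hom) :=
    K473.SeqFlat.seq_map_of_flat RegImm.Kind.quasi _ hflat hq hne
  refine ⟨_, (Groth.Agent.Divis.RegImm.isRegular_iff_ne_top _).2 ⟨?_, hne⟩, h1⟩
  generalize rs.map (X.presheaf.germ U.1 (i z) hz).hom = ss at hne hq'
  have h2 := K104.QuasiReg.isWeaklyRegular_of_isQuasiRegular ss.length ss.get (fun j => ?_) hq'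
  · rwa [List.ofFn_get] at h2
  · rw [IsLocalRing.ringJacobson_eq_maximalIdeal]
    exact IsLocalRing.le_maximalIdeal hne (Ideal.subset_span (List.get_mem ss j))

end K250.RegStalk
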