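import Groth.Agent.S2200
import Groth.Agent.FlatMor.K250.RegStalk
import Groth.Agent.Models.TorLoc

/-!
# Local form: `A → B → C` with `A → C` a regular quotient and `B → C` of finite tor dimension
-/

set_option autoImplicit false
set_option linter.style.haveILetI false
universe u

open RingTheory.Sequence

namespace K250.FactorLocal

open K250.RegStalk

/-- Let `A → B → C` be surjective homomorphisms of Noetherian local rings with `ker (A → C)` generated by a
regular sequence and `C` of finite tor dimension over `B`; then both `ker (A → B)` and `ker (B → C)` are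
generated by regular sequences. -/
theorem regKer_of_comp {A B C : Type u} [CommRing A] [CommRing B] [CommRing C] [IsNoetherianRing A]
    [IsLocalRing A] [Nontrivial C] (f : A →+* B) (g : B →+* C) (hf : Function.Surjective f)
    (hg : Function.Surjective g) (h : RegKer (g.comp f))
    (hfd : letI := g.toAlgebra; DRing.HasFiniteTorDim B C) : RegKer f ∧ RegKer g := by
  let I : Ideal A := RingHom.ker f
  let J : Ideal A := RingHom.ker (g.comp f)
  have hIJ : I ≤ J := fun x hx => by
    rw [RingHom.mem_ker, RingHom.comp_apply, (RingHom.mem_ker).1 hx, map_zero]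
  have hJ : J ≠ ⊤ := RingHom.ker_ne_top _
  let eI : (A ⧸ I) ≃+* B := RingHom.quotientKerEquivOfSurjective hf
  let eJ : (A ⧸ J) ≃+* C := RingHom.quotientKerEquivOfSurjective (hg.comp hf)
  let φ : A ⧸ I →+* A ⧸ J := Ideal.Quotient.factor hIJ
  letI : Algebra (A ⧸ I) (A ⧸ J) := φ.toAlgebra
  have hT : IsScalarTower A (A ⧸ I) (A ⧸ J) := IsScalarTower.of_algebraMap_eq' rfl
  have hφ : ∀ x, eJ (φ x) = g (eI x) := by
    intro x
    obtain ⟨a, rfl⟩ := Ideal.Quotient.mk_surjective x
    rfl
  have hfd' : DRing.HasFiniteTorDim (A ⧸ I) (A ⧸ J) := by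
    letI := g.toAlgebra
    letI : Algebra B (A ⧸ I) := eI.symm.toRingHom.toAlgebra
    letI : Algebra B (A ⧸ J) := (φ.comp eI.symm.toRingHom).toAlgebra
    haveI : IsScalarTower B (A ⧸ I) (A ⧸ J) := IsScalarTower.of_algebraMap_eq' rfl
    have hBC : DRing.HasFiniteTorDim B C := hfd
    let l : C ≃ₗ[B] (A ⧸ J) :=
      { eJ.symm with
        map_smul' := fun b c => by
          obtain ⟨x, rfl⟩ := eI.surjective b
          change eJ.symm (g (eI x) * c) = φ (eI.symm (eI x)) * eJ.symm c
          rw [map_mul, eI.symm_apply_apply, ← hφ, eJ.symm_apply_apply] }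
    have h1 : DRing.HasFiniteTorDim B (A ⧸ J) :=
      Groth.Agent.Models.TorLoc.hasFiniteTorDim_of_equiv l hBC
    exact Groth.Agent.Models.TorLoc.hasFiniteTorDim_of_bijective (A := B) (B := A ⧸ I) eI.symm.bijective h1
  obtain ⟨rs, hrs, hk⟩ := h
  obtain ⟨⟨us, hus, hus'⟩, vs, hvs, hvs'⟩ := Groth.Agent.S2200.result I J hIJ hJ hfd' ⟨rs, hk.symm, hrs⟩
  refine ⟨⟨us, hus', hus.symm⟩, ?_⟩
  have h2 : RegKer φ := by
    refine ⟨vs, hvs', ?_⟩
    rw [hvs]
    ext x
    obtain ⟨a, rfl⟩ := Ideal.Quotient.mk_surjective x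
    rw [RingHom.mem_ker]
    change Ideal.Quotient.mk J a = 0 ↔ _
    rw [Ideal.Quotient.eq_zero_iff_mem]
    constructor
    · intro ha
      exact Ideal.mem_map_of_mem _ ha
    · intro ha
      obtain ⟨b, hb, hb'⟩ := (Ideal.mem_map_iff_of_surjective _ Ideal.Quotient.mk_surjective).1 ha
      have h3 : a - b ∈ I := by
        rw [← Ideal.Quotient.eq_zero_iff_mem, map_sub, hb', sub_self]
      have h4 := J.add_mem (hIJ h3) hb
      simpa using h4
  have hnt : Nontrivial (A ⧸ J) := Ideal.Quotient.nontrivial_iff.2 hJ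
  refine RegKer.of_ringEquiv eI eJ ?_ h2
  ext x
  exact (hφ x).symm

end K250.FactorLocal
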