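import Groth.Agent.FlatMor.K249.PCCancel
import Groth.Agent.Flat2H.FlatPC3
import Groth.Agent.Flat2E.FiniteSlice

/-!
# Finite ring maps and pseudo-coherence

For a finite `A`-algebra `B`: `A → B` is a pseudo-coherent ring map iff `B` is of type FP_∞ (pseudo-coherent)
as an `A`-module.
-/

set_option autoImplicit false
set_option linter.style.haveILetI false
universe u

attribute [local instance] HasDerivedCategory.standard

namespace K250.FinitePC

open CategoryTheory CategoryTheory.Limits AlgebraicGeometry MvPolynomial
open Groth.Agent.Flat2H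

/-- If `B` is of type FP_∞ as an `A`-module then `A → B` is a pseudo-coherent ring map. -/
theorem pcHom_of_fpInf {A B : Type u} [CommRing A] [CommRing B] [Algebra A B] (h : FPInf A B) :
    PCHom A B := by
  have hfin : Module.Finite A B := h.finite
  obtain ⟨n, φ, hφ⟩ := Algebra.FiniteType.iff_quotient_mvPolynomial''.1
    (inferInstance : Algebra.FiniteType A B)
  refine ⟨n, φ, hφ, ?_⟩
  have h1 : φ.toRingHom = (MvPolynomial.eval (fun i => φ (X i))).comp
      (MvPolynomial.map (algebraMap A B)) := by
    apply MvPolynomial.ringHom_ext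
    · intro r; simp
    · intro i; simp
  rw [h1]
  exact ((pcMap_algebraMap_iff.2 h).mvPolynomial_map (Fin n)).comp (PCMap.mvPolynomial_eval B _)

/-- surjective ring maps: `PCHom` is the same as `FPInf` -/
theorem fpInf_of_pcHom_of_surjective {A B : Type u} [CommRing A] [CommRing B] [Algebra A B]
    (hs : Function.Surjective (algebraMap A B)) (h : PCHom A B) : FPInf A B := by
  let φ : MvPolynomial (Fin 0) A →ₐ[A] B := aeval (fun i => i.elim0)
  have hφ : Function.Surjective φ := by
    intro b
    obtain ⟨a, rfl⟩ := hs b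
    exact ⟨C a, by simp [φ]⟩
  have h1 := h.pcMap φ hφ
  have h2 : algebraMap A B = φ.toRingHom.comp (algebraMap A (MvPolynomial (Fin 0) A)) :=
    φ.comp_algebraMap.symm
  have h3 : Function.Bijective (algebraMap A (MvPolynomial (Fin 0) A)) :=
    ⟨C_injective _ _, C_surjective _⟩
  rw [← pcMap_algebraMap_iff, h2, PCMap.comp_bij_iff h3]
  exact h1

/-- A finite pseudo-coherent ring map is FP_∞ as a module map. -/
theorem fpInf_of_pcHom_of_finite {A B : Type u} [CommRing A] [CommRing B] [Algebra A B]
    [Module.Finite A B] (h : PCHom A B) : FPInf A B := by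
  obtain ⟨s, hs⟩ := (Module.Finite.fg_top : (⊤ : Submodule A B).FG)
  obtain ⟨C, _, _, ev, hfin, hfree, hC⟩ :=
    Groth.Agent.Flat2E.FiniteSlice.exists_finite_free_hit (A := A) (s : Set B) s.finite_toSet
      (fun x _ => Algebra.IsIntegral.isIntegral x)
  letI : Algebra C B := ev.toRingHom.toAlgebra
  haveI : IsScalarTower A C B := IsScalarTower.of_algebraMap_eq' ev.comp_algebraMap.symm
  have hsurj : Function.Surjective (algebraMap C B) := by
    have h1 : (⊤ : Submodule A B) ≤ LinearMap.range ev.toLinearMap := by
      rw [← hs, Submodule.span_le]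
      intro x hx
      exact hC hx
    intro b
    exact h1 (Submodule.mem_top : b ∈ ⊤)
  have hAC : FPInf A C := FPInf.of_projective C
  have hAC' : PCHom A C := pcHom_of_fpInf hAC
  exact FPInf.trans_alg (R := A) (S := C) (T := B) hAC
    (fpInf_of_pcHom_of_surjective hsurj (K249.PCCancel.pcHom_of_comp (A := A) hAC' h))

theorem pcHom_iff_fpInf_of_finite {A B : Type u} [CommRing A] [CommRing B] [Algebra A B]
    [Module.Finite A B] : PCHom A B ↔ FPInf A B :=
  ⟨fpInf_of_pcHom_of_finite, pcHom_of_fpInf⟩

end K250.FinitePC
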