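import Groth.Prelude.Def_FlatFun
import Groth.Agent.S1483
import Groth.Agent.S2768
import Groth.Agent.FibDim.K582.RelDim
import Groth.Agent.FDesc.K108.FPFree
import Groth.Agent.FlatMod.K582.RankStrat2
import Groth.Agent.Flat2B.SmoothGeom
import Groth.Agent.Ega3B.LocFree
import Groth.Agent.Ega3B.FlatRestrict
import Groth.Agent.CycB.RelDim3
import Groth.Agent.CycB.FiberStalk
import Groth.Agent.CurvesB.OmegaInv
import Groth.Agent.Models2.TorDimRel
import Groth.Agent.PerfC.RelFlat

/-!
# Modules flat at the generic points of the fibres of a smooth morphism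

For `q : X ⟶ T` smooth with geometrically irreducible fibres, and `F` a finitely presented
quasi-coherent `O_X`-module:

* `exists_genericPt` : every fibre has a generic point (`FlatFun.IsGenericPtOfFibre`);
* `isFlatAt_of_isFlatOverAt` : if `F` is flat over `T` at the generic point `x` of a fibre then it is
  a flat `O_X`-module at `x`; `exists_near` : then it is free near `x`;
* `isFlatOverAt_of_near` : the converse;
* `near_restrict_iff`, `near_iff_of_iso` : `FlatFun.IsFreeOfRankNear` and open immersions;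
* `dimFibresLT_iff_generic` : the non flat locus has fibres of dimension `< d` iff `F` is flat over
  `T` at the generic points of the fibres.
-/

set_option autoImplicit false
universe u
open CategoryTheory CategoryTheory.Limits AlgebraicGeometry Opposite
open Groth.Agent.CycB.RelDim Groth.Agent.CycB.FiberStalk FlatFun

namespace K250.GenFree

variable {X Y T : Scheme.{u}}

section Near

theorem near_of_isOpenImmersion (F : X.Modules) (p : ℕ) {W : Scheme.{u}} (j : W ⟶ X)
    [IsOpenImmersion j] (e : Nonempty (F.restrict j ≅ FlatMod.freeMod W p)) (x : X)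
    (hx : x ∈ Set.range j) : IsFreeOfRankNear F p x :=
  ⟨j.opensRange, hx, Groth.Agent.Ega3B.LocFree.nonempty_restrict_opensRange j F p e⟩

theorem near_of_iso {F G : X.Modules} (e : F ≅ G) {p : ℕ} {x : X} (h : IsFreeOfRankNear F p x) :
    IsFreeOfRankNear G p x := by
  obtain ⟨U, hx, ⟨a⟩⟩ := h
  exact ⟨U, hx, ⟨(Scheme.Modules.restrictFunctor U.ι).mapIso e.symm ≪≫ a⟩⟩

theorem near_restrict_iff (j : Y ⟶ X) [IsOpenImmersion j] (F : X.Modules) (p : ℕ) (y : Y) :
    IsFreeOfRankNear (F.restrict j) p y ↔ IsFreeOfRankNear F p (j y) := by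
  constructor
  · rintro ⟨U, hy, ⟨a⟩⟩
    refine near_of_isOpenImmersion F p (U.ι ≫ j)
      ⟨(Scheme.Modules.restrictFunctorComp U.ι j).app F ≪≫ a⟩ (j y)
      ⟨(⟨y, hy⟩ : U), Scheme.Hom.comp_apply U.ι j (⟨y, hy⟩ : U)⟩
  · rintro ⟨U, hy, e⟩
    refine ⟨j ⁻¹ᵁ U, hy, ?_⟩
    have h1 : (j ∣_ U) ≫ U.ι = (j ⁻¹ᵁ U).ι ≫ j := by simp
    obtain ⟨e'⟩ := Groth.Agent.Dcoh.ResFree.free_restrict (j ∣_ U) U.ι ((j ⁻¹ᵁ U).ι ≫ j) h1 e
    exact ⟨Groth.Agent.Dcoh.ResFree.restrictComp F (j ⁻¹ᵁ U).ι j _ rfl ≪≫ e'⟩

theorem fib_eq_of_near {F : X.Modules} (hF : Coh.IsQCoh F) {p : ℕ} {x : X}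
    (h : IsFreeOfRankNear F p x) : K582.RankStrat.fib F x = p := by
  obtain ⟨U, hx, ⟨e⟩⟩ := h
  have h1 := K582.RankStrat.fib_restrict U.ι F hF ⟨x, hx⟩
  exact (h1.symm.trans (K582.RankStrat.fib_congr e _)).trans (K582.RankStrat.fib_freeMod _ _ _)

theorem isFlatAt_of_near {F : X.Modules} {p : ℕ} {x : X} (h : IsFreeOfRankNear F p x) :
    FlatMod.IsFlatAt F x := by
  obtain ⟨U, hx, ⟨e⟩⟩ := h
  obtain ⟨b⟩ := Groth.Agent.CurvesB.OmegaInv.nonempty_basis_stalk e x hx
  have := Module.Free.of_basis b
  change Module.Flat _ _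
  infer_instance

end Near

section Flat

variable (q : X ⟶ T)

theorem isFlatOverAt_of_isFlatAt [Flat q] {F : X.Modules} {x : X} (h : FlatMod.IsFlatAt F x) :
    FlatMod.IsFlatOverAt q F x := by
  let _ : Algebra (T.presheaf.stalk (q.base x)) (X.presheaf.stalk x) := (q.stalkMap x).hom.toAlgebra
  let _ := FlatMod.moduleStalkOver q F x
  have : IsScalarTower (T.presheaf.stalk (q.base x)) (X.presheaf.stalk x) (F.presheaf.stalk x) :=
    ⟨fun a b m => by rw [Algebra.smul_def, mul_smul]; rfl⟩
  have : Module.Flat (T.presheaf.stalk (q.base x)) (X.presheaf.stalk x) := Flat.stalkMap q x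
  have : Module.Flat (X.presheaf.stalk x) (F.presheaf.stalk x) := h
  exact (Module.Flat.trans (T.presheaf.stalk (q.base x)) (X.presheaf.stalk x) (F.presheaf.stalk x) :)

theorem isFlatOverAt_of_near [Flat q] {F : X.Modules} {p : ℕ} {x : X}
    (h : IsFreeOfRankNear F p x) : FlatMod.IsFlatOverAt q F x :=
  isFlatOverAt_of_isFlatAt q (isFlatAt_of_near h)

end Flat

section Generic

variable (q : X ⟶ T)

theorem exists_genericPt [GeometricallyIrreducible q] (t : T) :
    ∃ x : X, q x = t ∧ IsGenericPtOfFibre q x := by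
  let z : q.fiber t := genericPoint _
  have hz : q (q.fiberι t z) = t := fiberι_mem q t z
  refine ⟨q.fiberι t z, hz, ?_⟩
  intro x' hx'
  have hx'' : q x' = t := by
    rw [← hz]; exact hx'
  have : x' ∈ Set.range (q.fiberι t) := by
    rw [Scheme.Hom.range_fiberι]
    exact hx''
  obtain ⟨z', rfl⟩ := this
  exact (genericPoint_specializes z').map (q.fiberι t).continuous

theorem fibGeneric_of_isGenericPt {x : X} (h : IsGenericPtOfFibre q x) : FibGeneric q x := by
  intro x' hx' hs
  exact (hs.antisymm (h x' hx')).eq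

theorem isGenericPt_of_fibGeneric [GeometricallyIrreducible q] {x : X} (h : FibGeneric q x) :
    IsGenericPtOfFibre q x := by
  obtain ⟨y, hy, hy'⟩ := exists_genericPt q (q x)
  have : y = x := h y hy (hy' x hy.symm)
  exact this ▸ hy'

theorem flat_of_isField {R M : Type u} [CommRing R] [AddCommGroup M] [Module R M] (h : IsField R) :
    Module.Flat R M := by
  let _ := h.toField
  infer_instance

theorem isField_quot [Smooth q] [GeometricallyIrreducible q] {x : X}
    (h : IsGenericPtOfFibre q x) : IsField (X.presheaf.stalk x ⧸ fibIdeal q x) := by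
  have hgr := Groth.Agent.Flat2B.SmoothGeom.geometricallyReduced_of_smooth q
  have hred : IsReduced (q.fiber (q x)) := inferInstance
  have hint : IsIntegral (q.fiber (q x)) := isIntegral_of_irreducibleSpace_of_isReduced _
  have hgen : q.asFiber x = genericPoint (q.fiber (q x)) := by
    have h1 : q.asFiber x ⤳ genericPoint (q.fiber (q x)) := by
      rw [← (q.fiberι (q x)).isEmbedding.isInducing.specializes_iff, Scheme.Hom.fiberι_asFiber]
      exact h _ (fiberι_mem q (q x) _)
    exact (h1.antisymm (genericPoint_specializes _)).eq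
  have e : (X.presheaf.stalk (q.fiberι (q x) (q.asFiber x)) ⧸
      fibIdeal q (q.fiberι (q x) (q.asFiber x))) ≃+* (q.fiber (q x)).presheaf.stalk (q.asFiber x) :=
    stalkEquiv q (q x) (q.asFiber x)
  have hf : IsField ((q.fiber (q x)).presheaf.stalk (q.asFiber x)) := by
    rw [hgen]
    exact Field.toIsField ((q.fiber (q x)).functionField)
  have h2 : IsField (X.presheaf.stalk (q.fiberι (q x) (q.asFiber x)) ⧸
      fibIdeal q (q.fiberι (q x) (q.asFiber x))) := e.toMulEquiv.isField hf
  rwa [Scheme.Hom.fiberι_asFiber] at h2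

/-- A finitely presented module flat over the base at the generic point of a fibre of a smooth
morphism with geometrically irreducible fibres is flat there. -/
theorem isFlatAt_of_isFlatOverAt [Smooth q] [GeometricallyIrreducible q] {F : X.Modules}
    (hq : Coh.IsQCoh F) (hF : CohB1.IsFP F) {x : X} (hx : IsGenericPtOfFibre q x)
    (h : FlatMod.IsFlatOverAt q F x) : FlatMod.IsFlatAt F x := by
  by_cases hn : Nontrivial (F.presheaf.stalk x)
  · rw [← Groth.Agent.Models2.TorDimRel.isFlatOverAt_iff (𝟙 X) F x]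
    have : LocallyOfFinitePresentation (𝟙 X ≫ q) := by rw [Category.id_comp]; infer_instance
    refine ((Groth.Agent.S1483.result (𝟙 X) q F hq hF x hn).1 ⟨?_, ?_⟩).2
    · rw [Category.id_comp]; exact h
    · exact flat_of_isField (isField_quot q hx)
  · rw [not_nontrivial_iff_subsingleton] at hn
    change Module.Flat _ _
    infer_instance

theorem exists_near [Smooth q] [GeometricallyIrreducible q] {F : X.Modules}
    (hq : Coh.IsQCoh F) (hF : CohB1.IsFP F) {x : X} (hx : IsGenericPtOfFibre q x)
    (h : FlatMod.IsFlatOverAt q F x) : ∃ p : ℕ, IsFreeOfRankNear F p x := by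
  obtain ⟨W, j, _, n, hxW, e⟩ :=
    K108.FPFree.nearFree_of_isFP F hF x (isFlatAt_of_isFlatOverAt q hq hF hx h)
  exact ⟨n, near_of_isOpenImmersion F n j e x hxW⟩

theorem hasRelDim (d : ℕ) [SmoothOfRelativeDimension d q] : Cyc.HasRelDim q d := by
  have : Smooth q := SmoothOfRelativeDimension.smooth d q
  rw [K582.FibRelDim.hasRelDim_iff]
  intro x
  exact Groth.Agent.S2768.result d q x

/-- The non flat locus has fibres of dimension `< d` if and only if the module is flat over the base
at the generic points of the fibres. -/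
theorem dimFibresLT_iff_generic (d : ℕ) [SmoothOfRelativeDimension d q]
    [GeometricallyIrreducible q] (F : X.Modules) :
    DimFibresLT d q {x | ¬ FlatMod.IsFlatOverAt q F x} ↔
      ∀ x : X, IsGenericPtOfFibre q x → FlatMod.IsFlatOverAt q F x := by
  have : Smooth q := SmoothOfRelativeDimension.smooth d q
  have hd := hasRelDim q d
  have key : DimFibresLT d q {x | ¬ FlatMod.IsFlatOverAt q F x} ↔
      ∀ x : X, ¬ FlatMod.IsFlatOverAt q F x → rtd q x < d := Iff.rfl
  rw [key]
  constructor
  · intro h x hx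
    by_contra hn
    have h1 := h x hn
    rw [(fibGeneric_iff hd x).1 (fibGeneric_of_isGenericPt q hx)] at h1
    exact lt_irrefl _ h1
  · intro h x hx
    refine lt_of_le_of_ne (rtd_le hd x) fun h1 => hx ?_
    exact h x (isGenericPt_of_fibGeneric q ((fibGeneric_iff hd x).2 h1))

end Generic

section Spread

variable (q : X ⟶ T)

/-- If `F` is free of rank `p` near the generic point of one fibre, the same holds for all fibres
over a neighbourhood of its image. -/
theorem exists_open [Smooth q] [GeometricallyIrreducible q] {F : X.Modules} {p : ℕ} {x : X}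
    (h : IsFreeOfRankNear F p x) :
    ∃ V : T.Opens, q x ∈ V ∧ ∀ x' : X, q x' ∈ V → IsGenericPtOfFibre q x' →
      IsFreeOfRankNear F p x' := by
  obtain ⟨U, hx, e⟩ := h
  refine ⟨⟨q '' U, q.isOpenMap _ U.2⟩, ⟨x, hx, rfl⟩, ?_⟩
  rintro x' ⟨w, hw, hwx⟩ hx'
  have h1 : x' ⤳ w := hx' w hwx
  exact ⟨U, h1.mem_open U.2 hw, e⟩

variable {q}

theorem isGenericPt_iff_of_isPullback {X' T' : Scheme.{u}} {j : X' ⟶ X} {q' : X' ⟶ T'} {i : T' ⟶ T}
    (H : IsPullback j q' q i) [IsOpenImmersion i] [IsOpenImmersion j] (x : X') :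
    IsGenericPtOfFibre q' x ↔ IsGenericPtOfFibre q (j x) := by
  have hw : ∀ z : X', q (j z) = i (q' z) := fun z => by
    rw [← Scheme.Hom.comp_apply, ← Scheme.Hom.comp_apply, H.w]
  constructor
  · intro h z hz
    have hz' : q z = q (j x) := hz
    obtain ⟨z', rfl⟩ : z ∈ Set.range j := by
      obtain ⟨w, hw1, -⟩ := Scheme.Pullback.exists_preimage_pullback (f := q) (g := i) z (q' x)
        (by rw [hz', hw])
      refine ⟨H.isoPullback.inv w, ?_⟩
      rw [← Scheme.Hom.comp_apply, IsPullback.isoPullback_inv_fst, hw1]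
    have h2 : q' z' = q' x := i.isOpenEmbedding.injective (by rw [← hw, ← hw, hz'])
    exact (h z' h2).map j.continuous
  · intro h z hz
    have hz' : q' z = q' x := hz
    have h1 := h (j z) (by
      change q (j z) = q (j x)
      rw [hw, hw, hz'])
    exact j.isOpenEmbedding.isInducing.specializes_iff.1 h1

end Spread

end K250.GenFree
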