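import Groth.Agent.FlatMor.K250.FibreLift
import Groth.Agent.Ega3B.NearFibre
import Groth.Agent.Flat2G.ProperDim

/-!
# Invertible modules trivial on a fibre of dimension at most one with `H^1 (X_y, O) = 0`

`near_fibre`: no flatness; `Y` locally Noetherian, `f` proper with all fibres of dimension at most one. An invertible
module which is trivial on `X_y` is trivial on `f⁻¹ U` for a neighbourhood `U` of `y`.
-/

set_option autoImplicit false
universe u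

open CategoryTheory CategoryTheory.Limits AlgebraicGeometry Opposite TensorProduct TopologicalSpace

namespace K250.NearFibre1

open Groth.Agent Groth.Agent.Ega3B Groth.Agent.Ega3B.EqzSections Groth.Agent.VarietyB
  Groth.Agent.Ega3B.PackageAsm Groth.Agent.Fdesc Groth.Agent.Fdesc.LocGen

variable {X Y : Scheme.{u}}

theorem fibre_dim (f : X ⟶ Y) [IsProper f] (hd : ∀ y : Y, topologicalKrullDim (f.fiber y) ≤ 1)
    {W : Y.Opens} (hW : IsAffineOpen W) (z : Spec (CommRingCat.of Γ(Y, W))) :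
    topologicalKrullDim ((strMap f hW).fiber z) ≤ 1 := by
  have H : IsPullback (f ⁻¹ᵁ W).ι (strMap f hW) f hW.fromSpec := EtPoint.isPullback_fromSpec f hW
  rw [Flat2G.ProperDim.topologicalKrullDim_fiber_baseChange f (strMap f hW) (f ⁻¹ᵁ W).ι hW.fromSpec H z]
  exact hd _

/-- Lifting over an affine open, on `f⁻¹ W` -/
theorem exists_lift_W (f : X ⟶ Y) [IsProper f] [IsLocallyNoetherian Y]
    (hd : ∀ y : Y, topologicalKrullDim (f.fiber y) ≤ 1) (F : X.Modules) (hF : Coh.IsCoh F)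
    {W : Y.Opens} (hW : IsAffineOpen W) (y : W) {Z : Scheme.{u}}
    (g : Z ⟶ (f ⁻¹ᵁ W).toScheme)
    (q : Z ⟶ Spec (CommRingCat.of (hW.primeIdealOf y).asIdeal.ResidueField))
    (H : IsPullback g q (strMap f hW) (Spec.map (CommRingCat.ofHom
      (algebraMap Γ(Y, W) (hW.primeIdealOf y).asIdeal.ResidueField))))
    (h : Subsingleton (Coh.HH Z ((Scheme.Modules.pullback g).obj (F.restrict (f ⁻¹ᵁ W).ι)) 1))
    (t0 : Γ((Scheme.Modules.pullback g).obj (F.restrict (f ⁻¹ᵁ W).ι), g ⁻¹ᵁ ⊤)) :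
    ∃ (a : Γ(Y, W)) (s : Γ(F.restrict (f ⁻¹ᵁ W).ι, ⊤)), a ∉ (hW.primeIdealOf y).asIdeal ∧
      LocGen.pullSec g s = secMap q (g ⁻¹ᵁ ⊤) (algebraMap _ _ a) • t0 := by
  have hN : IsNoetherianRing Γ(Y, W) := IsLocallyNoetherian.component_noetherian ⟨W, hW⟩
  let iO : (f ⁻¹ᵁ W).toScheme.Over (Spec (CommRingCat.of Γ(Y, W))) := ⟨strMap f hW⟩
  have hpr : IsProper ((f ⁻¹ᵁ W).toScheme ↘ Spec (CommRingCat.of Γ(Y, W))) :=
    inferInstanceAs (IsProper ((f ∣_ W) ≫ hW.isoSpec.hom))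
  have hF' : Coh.IsCoh (F.restrict (f ⁻¹ᵁ W).ι) := Groth.Agent.CohqB.LocalQC.isCoh_restrict _ hF
  exact FibreLift.exists_sec_lift (fibre_dim f hd hW) (F.restrict (f ⁻¹ᵁ W).ι) hF'
    (hW.primeIdealOf y).asIdeal H h t0

/-- Triviality of an invertible module near a fibre. -/
theorem near_fibre (f : X ⟶ Y) [IsProper f] [IsLocallyNoetherian Y]
    (hd : ∀ y : Y, topologicalKrullDim (f.fiber y) ≤ 1) (y : Y)
    (h1 : Subsingleton (Coh.HH (f.fiber y) (Coh.structureModule (f.fiber y)) 1))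
    (N : X.Modules) (hN : PicF.IsInvertible N)
    (hy : Nonempty (CohIII.fiberMod f N y ≅ Coh.structureModule (f.fiber y))) :
    ∃ U : Y.Opens, y ∈ U ∧
      Nonempty (N.restrict (f ⁻¹ᵁ U).ι ≅ Coh.structureModule (f ⁻¹ᵁ U).toScheme) := by
  obtain ⟨W, hW, hyW, -⟩ := exists_isAffineOpen_mem_and_subset (x := y) (U := ⊤) trivial
  obtain ⟨g, q, σ, hg, H, -⟩ := EtPoint.exists_square f hW ⟨y, hyW⟩
  obtain ⟨φ0⟩ := hy
  obtain ⟨ε⟩ := FibreResid.nonempty_fiberMod_iso f N y (f ⁻¹ᵁ W) g hg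
  let φ := (ε ≪≫ φ0).symm
  have h : Subsingleton (Coh.HH (f.fiber y) ((Scheme.Modules.pullback g).obj (N.restrict (f ⁻¹ᵁ W).ι)) 1) :=
    CohqA.DirectSum.subsingleton_of_iso φ 1 h1
  have hcoh : Coh.IsCoh N := PerfA.CohSerre.isCoh_of_isFinLocFree
    (NearFibre.isFinLocFree_of_isInvertible hN)
  let t0 : Γ((Scheme.Modules.pullback g).obj (N.restrict (f ⁻¹ᵁ W).ι), g ⁻¹ᵁ ⊤) :=
    φ.hom.app ⊤ (one ⊤)
  have ht0 : IsGen t0 := (isGen_one ⊤).app φ.hom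
  obtain ⟨a, s, ha, hs⟩ := exists_lift_W f hd N hcoh hW ⟨y, hyW⟩ g q H h t0
  -- the section `s` generates on the fibre
  have hunit : IsUnit (secMap q (g ⁻¹ᵁ ⊤) (algebraMap Γ(Y, W)
      (hW.primeIdealOf ⟨y, hyW⟩).asIdeal.ResidueField a)) := by
    refine IsUnit.map _ (IsUnit.mk0 _ ?_)
    rw [Ne, Ideal.algebraMap_residueField_eq_zero]
    exact ha
  have hgen : IsGen (pullSec g s) := by
    rw [hs]
    exact ht0.unit_smul hunit
  have hN' := NearFibre.isInvertible_restrict hN (f ⁻¹ᵁ W)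
  have hgl : g ⁻¹ᵁ (CohB1.genLocus _ (homOf s)) = ⊤ := by
    rw [← Ega1.AmpFam.genLocus_pullHom g hN' (homOf s), ← top_le_iff, le_genLocus_iff]
    have h2 : sec (pullHom g (homOf s)) (g ⁻¹ᵁ ⊤) = pullSec g s := by
      rw [sec_pullHom, sec_homOf, res_refl]
    exact h2 ▸ hgen
  -- the open where `s` generates
  obtain ⟨m, rfl⟩ := (toRestrict (M := N) (f ⁻¹ᵁ W).ι (U := ⊤)).surjective s
  set G := CohB1.genLocus _ (homOf (toRestrict (M := N) (f ⁻¹ᵁ W).ι m)) with hG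
  have hGm : IsGen (LocGen.res N ((f ⁻¹ᵁ W).ι.image_mono (le_top : G ≤ ⊤)) m) := by
    have h3 := isGen_sec_genLocus (homOf (toRestrict (M := N) (f ⁻¹ᵁ W).ι m))
    rw [sec_homOf, res_toRestrict, isGen_toRestrict_iff] at h3
    exact h3
  have hfib : ∀ x : X, f x = y → x ∈ (f ⁻¹ᵁ W).ι ''ᵁ G := by
    intro x hx
    have h4 : x ∈ Set.range (f.fiberι y) := by
      rw [f.range_fiberι y]
      exact hx
    obtain ⟨z, rfl⟩ := h4
    refine ⟨g z, ?_, ?_⟩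
    · have h5 : z ∈ g ⁻¹ᵁ G := by
        rw [hgl]
        trivial
      exact h5
    · rw [← hg]
      rfl
  obtain ⟨U, hyU, hUW, hU⟩ := NearFibre.exists_tube f f.isClosedMap y _ hfib W hyW
  refine ⟨U, hyU, ?_⟩
  have h6 := hGm.res hU
  have h7 : (f ⁻¹ᵁ U).ι ''ᵁ ⊤ ≤ f ⁻¹ᵁ U := by
    rw [Scheme.Opens.ι_image_top]
  have h8 := (isGen_toRestrict_iff (f ⁻¹ᵁ U).ι _).mpr (h6.res h7)
  set r := toRestrict (f ⁻¹ᵁ U).ι (LocGen.res N h7 (LocGen.res N hU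
    (LocGen.res N ((f ⁻¹ᵁ W).ι.image_mono (le_top : G ≤ ⊤)) m))) with hr
  have h9 : IsIso (homOf r) := by
    rw [isIso_iff_isGen, sec_homOf, res_refl]
    exact h8
  exact ⟨(asIso (homOf r)).symm⟩

/-- The direct image of a fibrewise trivial invertible module. -/
theorem isInvertible_pushforward (f : X ⟶ Y) (hO : ∀ U : Y.Opens, IsIso (f.app U)) (L : X.Modules)
    (h : ∀ y : Y, ∃ U : Y.Opens, y ∈ U ∧
      Nonempty (L.restrict (f ⁻¹ᵁ U).ι ≅ Coh.structureModule (f ⁻¹ᵁ U).toScheme)) :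
    PicF.IsInvertible ((Scheme.Modules.pushforward f).obj L) := by
  rw [isInvertible_iff]
  intro y
  obtain ⟨U, hy, ⟨e⟩⟩ := h y
  have h1 : IsGen (e.inv.app ⊤ (one ⊤)) := (isGen_one ⊤).app e.inv
  obtain ⟨m, hm⟩ := (toRestrict (M := L) (f ⁻¹ᵁ U).ι (U := ⊤)).surjective (e.inv.app ⊤ (one ⊤))
  rw [← hm, isGen_toRestrict_iff] at h1
  have h7 : f ⁻¹ᵁ U ≤ (f ⁻¹ᵁ U).ι ''ᵁ ⊤ := by
    rw [Scheme.Opens.ι_image_top]
  have h2 := h1.res h7
  refine ⟨U, (LocGen.res L h7 m : Γ(L, f ⁻¹ᵁ U)), hy, ?_⟩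
  intro V hV
  have h3 := h2 (f ⁻¹ᵁ V) ((Opens.map f.base).monotone hV)
  have h4 : Function.Bijective (f.app V) := ConcreteCategory.bijective_of_isIso (f.app V)
  exact h3.comp h4

end K250.NearFibre1
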