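import Groth.Prelude.Def_EtMil
import Groth.Agent.FlatMor.K263.PushBC
import Mathlib.AlgebraicGeometry.Morphisms.Etale
import Mathlib.AlgebraicGeometry.Morphisms.Flat

/-!
# Properties of morphisms between pushouts along closed immersions

`RingMain` : the ring level statement (Milnor squares of algebras: `B' → D'` has one of five properties iff
`B → D` and `A' → C'` both do). `main` : the statement for schemes.
-/

set_option autoImplicit false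
universe u

open CategoryTheory AlgebraicGeometry Limits TopologicalSpace

namespace K250.PushProps

/-- The ring level statement (EtAlg.milnor_algebra_properties_iff). -/
def RingMain : Prop := ∀ (B' B A' A : Type u) [CommRing B'] [CommRing B] [CommRing A'] [CommRing A]
    [Algebra B' B] [Algebra B' A'] [Algebra B A] [Algebra A' A] [Algebra B' A] [IsScalarTower B' B A] [IsScalarTower B' A' A]
    (_ : EtMil.IsFibreSquare B' B A' A)
    (D' D C' C : Type u) [CommRing D'] [CommRing D] [CommRing C'] [CommRing C]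
    [Algebra D' D] [Algebra D' C'] [Algebra D C] [Algebra C' C] [Algebra D' C] [IsScalarTower D' D C] [IsScalarTower D' C' C]
    (_ : EtMil.IsFibreSquare D' D C' C)
    [Algebra B' D'] [Algebra B D] [Algebra A' C'] [Algebra A C]
    [Algebra B' D] [IsScalarTower B' B D] [IsScalarTower B' D' D]
    [Algebra B' C'] [IsScalarTower B' A' C'] [IsScalarTower B' D' C']
    [Algebra B C] [IsScalarTower B A C] [IsScalarTower B D C]
    [Algebra A' C] [IsScalarTower A' A C] [IsScalarTower A' C' C]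
    [Algebra.IsPushout B D A C] [Algebra.IsPushout A' C' A C],
    (Algebra.FiniteType B' D' ↔ Algebra.FiniteType B D ∧ Algebra.FiniteType A' C') ∧
    (Module.Flat B' D' ↔ Module.Flat B D ∧ Module.Flat A' C') ∧
    (Module.Flat B' D' ∧ Algebra.FinitePresentation B' D' ↔
      (Module.Flat B D ∧ Algebra.FinitePresentation B D) ∧ (Module.Flat A' C' ∧ Algebra.FinitePresentation A' C')) ∧
    (Algebra.Smooth B' D' ↔ Algebra.Smooth B D ∧ Algebra.Smooth A' C') ∧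
    (Algebra.Etale B' D' ↔ Algebra.Etale B D ∧ Algebra.Etale A' C')

/-- The five properties for ring maps. -/
def Five {R₁ S₁ R₂ S₂ R₃ S₃ : Type u} [CommRing R₁] [CommRing S₁] [CommRing R₂] [CommRing S₂] [CommRing R₃] [CommRing S₃]
    (f' : R₁ →+* S₁) (f : R₂ →+* S₂) (g : R₃ →+* S₃) : Prop :=
  (f'.FiniteType ↔ f.FiniteType ∧ g.FiniteType) ∧
  (f'.Flat ↔ f.Flat ∧ g.Flat) ∧
  (f'.Flat ∧ f'.FinitePresentation ↔ (f.Flat ∧ f.FinitePresentation) ∧ (g.Flat ∧ g.FinitePresentation)) ∧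
  (f'.Smooth ↔ f.Smooth ∧ g.Smooth) ∧
  (f'.Etale ↔ f.Etale ∧ g.Etale)

theorem ringForm (hR : RingMain.{u}) {B' B A' A D' D C' C : CommRingCat.{u}}
    (β : B' ⟶ B) (α : B' ⟶ A') (β₂ : B ⟶ A) (α₂ : A' ⟶ A) (δ : D' ⟶ D) (γ : D' ⟶ C') (δ₂ : D ⟶ C) (γ₂ : C' ⟶ C)
    (f' : B' ⟶ D') (f : B ⟶ D) (g : A' ⟶ C') (c : A ⟶ C)
    (w : β ≫ β₂ = α ≫ α₂) (w' : δ ≫ δ₂ = γ ≫ γ₂) (hf : f' ≫ δ = β ≫ f) (hg : f' ≫ γ = α ≫ g)
    (hs : Function.Surjective α₂) (hs' : Function.Surjective γ₂)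
    (hm : ∀ b a', β₂ b = α₂ a' → ∃! b', β b' = b ∧ α b' = a')
    (hm' : ∀ b a', δ₂ b = γ₂ a' → ∃! b', δ b' = b ∧ γ b' = a')
    (hp : IsPushout β₂ f c δ₂) (hq : IsPushout α₂ g c γ₂) : Five f'.hom f.hom g.hom := by
  algebraize [β.hom, α.hom, β₂.hom, α₂.hom, δ.hom, γ.hom, δ₂.hom, γ₂.hom, f'.hom, f.hom, g.hom, c.hom,
    β₂.hom.comp β.hom, δ₂.hom.comp δ.hom, f.hom.comp β.hom, g.hom.comp α.hom, δ₂.hom.comp f.hom, γ₂.hom.comp g.hom]
  have t1 : IsScalarTower B' A' A := .of_algebraMap_eq fun x => congr($(w).hom x)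
  have t2 : IsScalarTower D' C' C := .of_algebraMap_eq fun x => congr($(w').hom x)
  have t3 : IsScalarTower B' D' D := .of_algebraMap_eq fun x => congr($(hf.symm).hom x)
  have t4 : IsScalarTower B' D' C' := .of_algebraMap_eq fun x => congr($(hg.symm).hom x)
  have t5 : IsScalarTower B A C := .of_algebraMap_eq fun x => congr($(hp.w.symm).hom x)
  have t6 : IsScalarTower A' A C := .of_algebraMap_eq fun x => congr($(hq.w.symm).hom x)
  have p1 : Algebra.IsPushout B D A C := (CommRingCat.isPushout_iff_isPushout.mp hp).symm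
  have p2 : Algebra.IsPushout A' C' A C := (CommRingCat.isPushout_iff_isPushout.mp hq).symm
  exact hR B' B A' A ⟨hs, hm⟩ D' D C' C ⟨hs', hm'⟩

section geom

open K263.PushChar K263.PushBC

variable {X Y Z P X' Y' Z' P' : Scheme.{u}}
    {i : Z ⟶ X} {j : Z ⟶ Y} [IsClosedImmersion i] [IsClosedImmersion j] {a : X ⟶ P} {b : Y ⟶ P}
    {f : X' ⟶ X} {g : Y' ⟶ Y} {i' : Z' ⟶ X'} {j' : Z' ⟶ Y'} {c : Z' ⟶ Z}
    {a' : X' ⟶ P'} {b' : Y' ⟶ P'} {h : P' ⟶ P}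

theorem appLE_surjective (j : Z ⟶ Y) [IsClosedImmersion j] (V : Y.Opens) (hV : IsAffineOpen V) (O : Z.Opens)
    (hO : O = j ⁻¹ᵁ V) : Function.Surjective (j.appLE V O hO.le) := by
  subst hO
  rw [Scheme.Hom.appLE_eq_app]
  exact j.app_surjective V hV

theorem mil_existsUnique {i : Z ⟶ X} {j : Z ⟶ Y} {a : X ⟶ P} {b : Y ⟶ P} {O : P.Opens} (hm : Mil i j a b O)
    (V : Z.Opens) (hVa : V = i ⁻¹ᵁ a ⁻¹ᵁ O) (hVb : V = j ⁻¹ᵁ b ⁻¹ᵁ O) (s : Γ(X, a ⁻¹ᵁ O)) (t : Γ(Y, b ⁻¹ᵁ O))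
    (hst : i.appLE (a ⁻¹ᵁ O) V hVa.le s = j.appLE (b ⁻¹ᵁ O) V hVb.le t) :
    ∃! r : Γ(P, O), a.app O r = s ∧ b.app O r = t := by
  obtain ⟨r, h1, h2⟩ := hm.1 s t V hVa hVb hst
  exact ⟨r, ⟨h1, h2⟩, fun r' hr' => hm.2 _ _ (hr'.1.trans h1.symm) (hr'.2.trans h2.symm)⟩

theorem five_appLE (hR : RingMain.{u}) (hgl : IsGlued i j a b) (hgl' : IsGlued i' j' a' b')
    (hX : IsPullback i' c f i) (hY : IsPullback j' c g j) (ha : a' ≫ h = f ≫ a) (hb : b' ≫ h = g ≫ b)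
    (U : P.Opens) (hU : IsAffineOpen U) (V : P'.Opens) (hV : IsAffineOpen V) (e : V ≤ h ⁻¹ᵁ U)
    (ef : a' ⁻¹ᵁ V ≤ f ⁻¹ᵁ a ⁻¹ᵁ U) (eg : b' ⁻¹ᵁ V ≤ g ⁻¹ᵁ b ⁻¹ᵁ U) :
    Five (h.appLE U V e).hom (f.appLE (a ⁻¹ᵁ U) (a' ⁻¹ᵁ V) ef).hom (g.appLE (b ⁻¹ᵁ U) (b' ⁻¹ᵁ V) eg).hom := by
  have := hgl.isAffineHom_a
  have := hgl.isClosedImmersion_b
  have := hgl'.isAffineHom_a
  have := hgl'.isClosedImmersion_b
  have : IsClosedImmersion i' := MorphismProperty.of_isPullback (P := @IsClosedImmersion) hX.flip inferInstance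
  have : IsClosedImmersion j' := MorphismProperty.of_isPullback (P := @IsClosedImmersion) hY.flip inferInstance
  have e1 : i ⁻¹ᵁ a ⁻¹ᵁ U = j ⁻¹ᵁ b ⁻¹ᵁ U := by
    rw [← Scheme.Hom.comp_preimage, hgl.isPullback.w, Scheme.Hom.comp_preimage]
  have e2 : i' ⁻¹ᵁ a' ⁻¹ᵁ V = j' ⁻¹ᵁ b' ⁻¹ᵁ V := by
    rw [← Scheme.Hom.comp_preimage, hgl'.isPullback.w, Scheme.Hom.comp_preimage]
  have ec : i' ⁻¹ᵁ a' ⁻¹ᵁ V ≤ c ⁻¹ᵁ i ⁻¹ᵁ a ⁻¹ᵁ U := by
    rw [← Scheme.Hom.comp_preimage c, ← hX.w, Scheme.Hom.comp_preimage i' f]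
    exact (Opens.map i'.base).monotone ef
  have ha1 := hU.preimage a
  have ha2 := hV.preimage a'
  have hb1 := hU.preimage b
  have hb2 := hV.preimage b'
  have hp := isPushout_sections hX (V := a ⁻¹ᵁ U) (V' := i ⁻¹ᵁ a ⁻¹ᵁ U) (O := a' ⁻¹ᵁ V) (O' := i' ⁻¹ᵁ a' ⁻¹ᵁ V)
    ha1 (ha1.preimage i) ha2 le_rfl ef (by rw [inf_eq_left.mpr ec])
  have hq := isPushout_sections hY (V := b ⁻¹ᵁ U) (V' := i ⁻¹ᵁ a ⁻¹ᵁ U) (O := b' ⁻¹ᵁ V) (O' := i' ⁻¹ᵁ a' ⁻¹ᵁ V)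
    hb1 (ha1.preimage i) hb2 e1.le eg (by rw [← e2, inf_eq_left.mpr ec])
  refine ringForm hR (a.appLE U (a ⁻¹ᵁ U) le_rfl) (b.appLE U (b ⁻¹ᵁ U) le_rfl)
    (i.appLE (a ⁻¹ᵁ U) (i ⁻¹ᵁ a ⁻¹ᵁ U) le_rfl) (j.appLE (b ⁻¹ᵁ U) (i ⁻¹ᵁ a ⁻¹ᵁ U) e1.le)
    (a'.appLE V (a' ⁻¹ᵁ V) le_rfl) (b'.appLE V (b' ⁻¹ᵁ V) le_rfl)
    (i'.appLE (a' ⁻¹ᵁ V) (i' ⁻¹ᵁ a' ⁻¹ᵁ V) le_rfl) (j'.appLE (b' ⁻¹ᵁ V) (i' ⁻¹ᵁ a' ⁻¹ᵁ V) e2.le)
    (h.appLE U V e) (f.appLE (a ⁻¹ᵁ U) (a' ⁻¹ᵁ V) ef) (g.appLE (b ⁻¹ᵁ U) (b' ⁻¹ᵁ V) eg)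
    (c.appLE (i ⁻¹ᵁ a ⁻¹ᵁ U) (i' ⁻¹ᵁ a' ⁻¹ᵁ V) ec) ?_ ?_ ?_ ?_
    (appLE_surjective j _ hb1 _ e1) (appLE_surjective j' _ hb2 _ e2) ?_ ?_ hp hq
  · rw [Scheme.Hom.appLE_comp_appLE, Scheme.Hom.appLE_comp_appLE]
    simp only [hgl.isPullback.w]
  · rw [Scheme.Hom.appLE_comp_appLE, Scheme.Hom.appLE_comp_appLE]
    simp only [hgl'.isPullback.w]
  · rw [Scheme.Hom.appLE_comp_appLE, Scheme.Hom.appLE_comp_appLE]
    simp only [ha]
  · rw [Scheme.Hom.appLE_comp_appLE, Scheme.Hom.appLE_comp_appLE]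
    simp only [hb]
  · rw [Scheme.Hom.appLE_eq_app (f := a), Scheme.Hom.appLE_eq_app (f := b)]
    exact mil_existsUnique (hgl.mil U) _ rfl e1
  · rw [Scheme.Hom.appLE_eq_app (f := a'), Scheme.Hom.appLE_eq_app (f := b')]
    exact mil_existsUnique (hgl'.mil V) _ rfl e2

/-- A property of morphisms which holds iff it holds on all affine charts, iff it holds on suitable affine charts. -/
structure Chart (T : MorphismProperty Scheme.{u}) (Q : ∀ {R S : Type u} [CommRing R] [CommRing S], (R →+* S) → Prop) :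
    Prop where
  all : ∀ {X Y : Scheme.{u}} (f : X ⟶ Y), T f → ∀ (U : Y.Opens) (V : X.Opens) (_ : IsAffineOpen U) (_ : IsAffineOpen V)
    (e : V ≤ f ⁻¹ᵁ U), Q (f.appLE U V e).hom
  local' : ∀ {X Y : Scheme.{u}} (f : X ⟶ Y), (∀ x : X, ∃ (U : Y.Opens) (V : X.Opens) (_ : IsAffineOpen U)
    (_ : IsAffineOpen V) (_ : x ∈ V) (e : V ≤ f ⁻¹ᵁ U), Q (f.appLE U V e).hom) → T f

omit [IsClosedImmersion i] [IsClosedImmersion j] in
theorem iff_of_chart {T : MorphismProperty Scheme.{u}}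
    {Q : ∀ {R S : Type u} [CommRing R] [CommRing S], (R →+* S) → Prop} (hT : Chart T Q)
    (hgl : IsGlued i j a b) (hgl' : IsGlued i' j' a' b') (ha : a' ≫ h = f ≫ a) (hb : b' ≫ h = g ≫ b)
    (key : ∀ (U : P.Opens) (_ : IsAffineOpen U) (V : P'.Opens) (_ : IsAffineOpen V) (e : V ≤ h ⁻¹ᵁ U)
      (ef : a' ⁻¹ᵁ V ≤ f ⁻¹ᵁ a ⁻¹ᵁ U) (eg : b' ⁻¹ᵁ V ≤ g ⁻¹ᵁ b ⁻¹ᵁ U),
      Q (h.appLE U V e).hom ↔ Q (f.appLE (a ⁻¹ᵁ U) (a' ⁻¹ᵁ V) ef).hom ∧ Q (g.appLE (b ⁻¹ᵁ U) (b' ⁻¹ᵁ V) eg).hom) :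
    T h ↔ T f ∧ T g := by
  have := hgl.isAffineHom_a
  have := hgl.isClosedImmersion_b
  have := hgl'.isAffineHom_a
  have := hgl'.isClosedImmersion_b
  have hea : ∀ (U : P.Opens) (V : P'.Opens) (_ : V ≤ h ⁻¹ᵁ U), a' ⁻¹ᵁ V ≤ f ⁻¹ᵁ a ⁻¹ᵁ U := by
    intro U V e
    rw [← Scheme.Hom.comp_preimage, ← ha, Scheme.Hom.comp_preimage]
    exact (Opens.map a'.base).monotone e
  have heb : ∀ (U : P.Opens) (V : P'.Opens) (_ : V ≤ h ⁻¹ᵁ U), b' ⁻¹ᵁ V ≤ g ⁻¹ᵁ b ⁻¹ᵁ U := by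
    intro U V e
    rw [← Scheme.Hom.comp_preimage, ← hb, Scheme.Hom.comp_preimage]
    exact (Opens.map b'.base).monotone e
  have hex : ∀ w : P', ∃ (U : P.Opens) (V : P'.Opens) (_ : IsAffineOpen U) (_ : IsAffineOpen V) (_ : w ∈ V),
      V ≤ h ⁻¹ᵁ U := by
    intro w
    obtain ⟨U, hU, hwU, -⟩ := exists_isAffineOpen_mem_and_subset (U := (⊤ : P.Opens)) (x := h w) trivial
    obtain ⟨V, hV, hwV, e⟩ := exists_isAffineOpen_mem_and_subset (U := h ⁻¹ᵁ U) (x := w) hwU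
    exact ⟨U, V, hU, hV, hwV, e⟩
  constructor
  · intro hh
    refine ⟨hT.local' f fun x => ?_, hT.local' g fun y => ?_⟩
    · obtain ⟨U, V, hU, hV, hx, e⟩ := hex (a' x)
      exact ⟨a ⁻¹ᵁ U, a' ⁻¹ᵁ V, hU.preimage a, hV.preimage a', hx, hea U V e,
        ((key U hU V hV e (hea U V e) (heb U V e)).mp (hT.all h hh U V hU hV e)).1⟩
    · obtain ⟨U, V, hU, hV, hx, e⟩ := hex (b' y)
      exact ⟨b ⁻¹ᵁ U, b' ⁻¹ᵁ V, hU.preimage b, hV.preimage b', hx, heb U V e,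
        ((key U hU V hV e (hea U V e) (heb U V e)).mp (hT.all h hh U V hU hV e)).2⟩
  · rintro ⟨hf, hg⟩
    refine hT.local' h fun w => ?_
    obtain ⟨U, V, hU, hV, hx, e⟩ := hex w
    exact ⟨U, V, hU, hV, hx, e, (key U hU V hV e (hea U V e) (heb U V e)).mpr
      ⟨hT.all f hf _ _ (hU.preimage a) (hV.preimage a') (hea U V e),
        hT.all g hg _ _ (hU.preimage b) (hV.preimage b') (heb U V e)⟩⟩

theorem chart_of {T : MorphismProperty Scheme.{u}}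
    {Q : ∀ {R S : Type u} [CommRing R] [CommRing S], (R →+* S) → Prop} [HasRingHomProperty T Q]
    (hQ : RingHom.StableUnderCompositionWithLocalizationAwaySource Q) : Chart T Q where
  all f hf U V hU hV e := HasRingHomProperty.appLE T f hf ⟨U, hU⟩ ⟨V, hV⟩ e
  local' f hf := (HasRingHomProperty.iff_exists_appLE (P := T) hQ).mpr fun x => by
    obtain ⟨U, V, hU, hV, hx, e, h⟩ := hf x
    exact ⟨⟨U, hU⟩, ⟨V, hV⟩, hx, e, h⟩

theorem main (hR : RingMain.{u}) (hP : IsPushout i j a b) (hX : IsPullback i' c f i) (hY : IsPullback j' c g j)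
    (hP' : IsPushout i' j' a' b') (ha : a' ≫ h = f ≫ a) (hb : b' ≫ h = g ≫ b) :
    (LocallyOfFiniteType h ↔ LocallyOfFiniteType f ∧ LocallyOfFiniteType g) ∧
    (Flat h ↔ Flat f ∧ Flat g) ∧
    ((Flat h ∧ LocallyOfFinitePresentation h) ↔ (Flat f ∧ LocallyOfFinitePresentation f) ∧ (Flat g ∧ LocallyOfFinitePresentation g)) ∧
    (Smooth h ↔ Smooth f ∧ Smooth g) ∧
    (Etale h ↔ Etale f ∧ Etale g) := by
  have : IsClosedImmersion i' := MorphismProperty.of_isPullback (P := @IsClosedImmersion) hX.flip inferInstance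
  have : IsClosedImmersion j' := MorphismProperty.of_isPullback (P := @IsClosedImmersion) hY.flip inferInstance
  have hgl := isGlued_of_isPushout (exists_adapted_of_isClosedImmersion i j) hP
  have hgl' := isGlued_of_isPushout (exists_adapted_of_isClosedImmersion i' j') hP'
  have k := fun U hU V hV e ef eg => five_appLE (f := f) (g := g) (c := c) (h := h) hR hgl hgl' hX hY ha hb
    U hU V hV e ef eg
  have c1 : Chart @LocallyOfFiniteType @RingHom.FiniteType :=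
    chart_of (RingHom.finiteType_stableUnderComposition.stableUnderCompositionWithLocalizationAway
      RingHom.finiteType_holdsForLocalizationAway).left
  have c2 : Chart @Flat @RingHom.Flat :=
    chart_of (RingHom.Flat.stableUnderComposition.stableUnderCompositionWithLocalizationAway
      RingHom.Flat.holdsForLocalizationAway).left
  have c3 : Chart @LocallyOfFinitePresentation @RingHom.FinitePresentation :=
    chart_of (RingHom.finitePresentation_stableUnderComposition.stableUnderCompositionWithLocalizationAway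
      RingHom.finitePresentation_holdsForLocalizationAway).left
  have c4 : Chart @Smooth @RingHom.Smooth :=
    chart_of (RingHom.Smooth.stableUnderComposition.stableUnderCompositionWithLocalizationAway
      RingHom.Smooth.holdsForLocalizationAway).left
  have hE : RingHom.HoldsForLocalizationAway @RingHom.Etale := fun R S _ _ _ r _ =>
    (RingHom.etale_iff_formallyUnramified_and_smooth _).mpr
      ⟨RingHom.FormallyUnramified.holdsForLocalizationAway S r, RingHom.Smooth.holdsForLocalizationAway S r⟩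
  have c5 : Chart @Etale @RingHom.Etale :=
    chart_of (RingHom.Etale.stableUnderComposition.stableUnderCompositionWithLocalizationAway hE).left
  have c6 : Chart (fun _ _ f => Flat f ∧ LocallyOfFinitePresentation f)
      (fun f => f.Flat ∧ f.FinitePresentation) :=
    { all := fun f hf U V hU hV e => ⟨c2.all f hf.1 U V hU hV e, c3.all f hf.2 U V hU hV e⟩
      local' := fun f hf => ⟨c2.local' f fun x => by
          obtain ⟨U, V, hU, hV, hx, e, h⟩ := hf x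
          exact ⟨U, V, hU, hV, hx, e, h.1⟩, c3.local' f fun x => by
          obtain ⟨U, V, hU, hV, hx, e, h⟩ := hf x
          exact ⟨U, V, hU, hV, hx, e, h.2⟩⟩ }
  exact ⟨iff_of_chart c1 hgl hgl' ha hb fun U hU V hV e ef eg => (k U hU V hV e ef eg).1,
    iff_of_chart c2 hgl hgl' ha hb fun U hU V hV e ef eg => (k U hU V hV e ef eg).2.1,
    iff_of_chart c6 hgl hgl' ha hb fun U hU V hV e ef eg => (k U hU V hV e ef eg).2.2.1,
    iff_of_chart c4 hgl hgl' ha hb fun U hU V hV e ef eg => (k U hU V hV e ef eg).2.2.2.1,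
    iff_of_chart c5 hgl hgl' ha hb fun U hU V hV e ef eg => (k U hU V hV e ef eg).2.2.2.2⟩

end geom

end K250.PushProps
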