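import Mathlib.AlgebraicGeometry.Noetherian
import Mathlib.RingTheory.RegularLocalRing.Defs

/-!
# Section rings of affine opens of schemes with regular stalks
-/

set_option autoImplicit false
universe u

open CategoryTheory AlgebraicGeometry

namespace K250.RegSection

/-- The section ring over an affine open of a locally Noetherian scheme is a regular ring when all
stalks at points of the open are regular (proof as in `Groth.Agent.Sga7.H732.Reg`). -/
theorem isRegularRing_of_stalks {X : Scheme.{u}} {V : X.Opens} (hV : IsAffineOpen V)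
    [IsNoetherianRing Γ(X, V)] (h : ∀ x ∈ V, IsRegularLocalRing (X.presheaf.stalk x)) :
    IsRegularRing Γ(X, V) := by
  rw [isRegularRing_iff]
  intro p hp
  have h0 : hV.fromSpec ⟨p, hp⟩ ∈ V := by
    have : hV.fromSpec ⟨p, hp⟩ ∈ Set.range hV.fromSpec := ⟨_, rfl⟩
    rwa [hV.range_fromSpec] at this
  have h1 := h _ h0
  let _ := X.presheaf.algebra_section_stalk ⟨_, h0⟩
  have := hV.isLocalization_stalk ⟨_, h0⟩
  have hx : hV.primeIdealOf ⟨_, h0⟩ = ⟨p, hp⟩ := by
    apply hV.fromSpec.isOpenEmbedding.injective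
    exact hV.fromSpec_primeIdealOf ⟨_, h0⟩
  have h3 : IsRegularLocalRing (Localization.AtPrime (hV.primeIdealOf ⟨_, h0⟩).asIdeal) :=
    IsRegularLocalRing.of_ringEquiv
      (IsLocalization.algEquiv (hV.primeIdealOf ⟨_, h0⟩).asIdeal.primeCompl
      (Localization.AtPrime (hV.primeIdealOf ⟨_, h0⟩).asIdeal)
        (X.presheaf.stalk (hV.fromSpec ⟨p, hp⟩))).toRingEquiv.symm
  revert h3
  generalize (hV.primeIdealOf ⟨_, h0⟩) = q at hx ⊢
  subst hx
  exact fun h => h

end K250.RegSection
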