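import Groth.Agent.Flat2H.TorDimPoly
import Groth.Agent.S0563
import Mathlib.RingTheory.Flat.Localization
import Mathlib.RingTheory.Ideal.Height
import Mathlib.RingTheory.Localization.BaseChange
import Mathlib.RingTheory.RegularLocalRing.Defs

/-!
# Tor dimension is local on the base; tor dimension over regular rings
-/

set_option autoImplicit false
universe u

open TensorProduct

namespace K250.TorLocal

open Groth.Agent.Flat2H.TorDim Groth.Agent.Flat2H.TorDimPoly

variable {A : Type u} [CommRing A]

/-- tor dimension `≤ n` may be checked at the maximal ideals of the base ring. -/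
theorem hasTorDimLE_of_localized_maximal (n : ℕ) : ∀ (M : Type u) [AddCommGroup M] [Module A M]
    (_ : ∀ (P : Ideal A) [P.IsMaximal],
      DRing.HasTorDimLE (Localization.AtPrime P) n (Localization.AtPrime P ⊗[A] M)),
    DRing.HasTorDimLE A n M := by
  induction n with
  | zero =>
    intro M _ _ h
    rw [hasTorDimLE_zero_iff]
    refine Module.flat_of_isLocalized_maximal (R := A) (S := A) M
      (fun P _ => Localization.AtPrime P ⊗[A] M)
      (fun P _ => TensorProduct.mk A (Localization.AtPrime P) M 1) fun P _ => ?_
    have h1 := h P
    rw [hasTorDimLE_zero_iff] at h1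
    exact Module.Flat.trans A (Localization.AtPrime P) _
  | succ n ih =>
    intro M _ _ h
    let f : (M →₀ A) →ₗ[A] M := Finsupp.linearCombination A id
    have hf : Function.Surjective f := Finsupp.linearCombination_id_surjective A M
    rw [hasTorDimLE_succ_iff_ker f hf]
    refine ih _ fun P _ => ?_
    exact (hasTorDimLE_succ_baseChange_iff (Localization.AtPrime P) f hf n).1 (h P)

/-- Over a Noetherian ring of finite Krull dimension whose local rings are regular, every module has
finite tor dimension. -/
theorem hasFiniteTorDim_of_regular [IsNoetherianRing A]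
    (hreg : ∀ (P : Ideal A) [P.IsPrime], IsRegularLocalRing (Localization.AtPrime P))
    (hdim : ringKrullDim A < ⊤) (M : Type u) [AddCommGroup M] [Module A M] :
    DRing.HasFiniteTorDim A M := by
  obtain ⟨N, hN⟩ : ∃ N : ℕ, ringKrullDim A ≤ N := by
    generalize ringKrullDim A = x at hdim
    induction x with
    | bot => exact ⟨0, bot_le⟩
    | coe x =>
      induction x with
      | top => exact absurd hdim (lt_irrefl _)
      | coe x => exact ⟨x, le_rfl⟩
  refine ⟨N, hasTorDimLE_of_localized_maximal N M fun P _ => ?_⟩
  have := hreg P
  obtain ⟨d, hd⟩ : ∃ d : ℕ, ringKrullDim (Localization.AtPrime P) = d := by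
    rw [IsLocalization.AtPrime.ringKrullDim_eq_height P]
    have h1 : P.height ≠ ⊤ := Ideal.height_ne_top ‹P.IsMaximal›.ne_top
    exact ⟨P.height.toNat, by rw [← ENat.natCast_toNat h1]; rfl⟩
  have hdN : d ≤ N := by
    have h1 : ringKrullDim (Localization.AtPrime P) ≤ ringKrullDim A := by
      rw [IsLocalization.AtPrime.ringKrullDim_eq_height P]
      exact Ideal.height_le_ringKrullDim_of_ne_top ‹P.IsMaximal›.ne_top
    have h2 := (hd ▸ h1).trans hN
    exact_mod_cast h2
  exact HasTorDimLE.mono (hasTorDimLE_of_hasProjectiveDimensionLE
    (Groth.Agent.S0563.result (Localization.AtPrime P) d hd _)) hdN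

end K250.TorLocal
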