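import Groth.Agent.Flat2H.TorDimHom
import Groth.Agent.Flat2H.PCHom
import Groth.Agent.S0387
import Groth.Agent.Flat2B.FlatLocusAux

/-!
# Openness of the locus of finite tor dimension for pseudo-coherent modules
-/

set_option autoImplicit false
universe u

open TensorProduct

namespace K250.TorOpen

open Groth.Agent.Flat2H Groth.Agent.Flat2H.TorDim

/-- The flat locus is open: flatness at a prime spreads out to a basic open neighbourhood. -/
theorem exists_flat_away {R S M : Type u} [CommRing R] [CommRing S] [Algebra R S]
    [Algebra.FinitePresentation R S] [AddCommGroup M] [Module S M] [Module R M]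
    [IsScalarTower R S M] [Module.FinitePresentation S M] (q : Ideal S) [hq : q.IsPrime]
    (h : Module.Flat R (LocalizedModule q.primeCompl M)) :
    ∃ g : S, g ∉ q ∧ Module.Flat R (LocalizedModule (Submonoid.powers g) M) := by
  have hopen := Groth.Agent.S0387.result (R := R) (S := S) (M := M)
  obtain ⟨_, ⟨_, ⟨g, rfl⟩, rfl⟩, hg1, hg2⟩ := PrimeSpectrum.isBasis_basic_opens.exists_subset_of_mem_open
    (show (⟨q, hq⟩ : PrimeSpectrum S) ∈
      {q : PrimeSpectrum S | Module.Flat R (LocalizedModule q.asIdeal.primeCompl M)} from h) hopen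
  refine ⟨g, hg1, Groth.Agent.Flat2B.FlatLocusAux.flat_away_of_flatAt M g fun q' hq' hg' => ?_⟩
  exact hg2 (show (⟨q', hq'⟩ : PrimeSpectrum S) ∈ PrimeSpectrum.basicOpen g from hg')

variable {A P : Type u} [CommRing A] [CommRing P] [Algebra A P]

theorem hasTorDimLE_succ_tensor_iff (C : Type u) [CommRing C] [Algebra P C] [Algebra A C] [IsScalarTower A P C]
    [Module.Flat A P] [Module.Flat P C] {F M : Type u} [AddCommGroup F] [Module P F]
    [Module.Flat P F] [AddCommGroup M] [Module P M] (g : F →ₗ[P] M) (hg : Function.Surjective g) (n : ℕ) :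
    DRing.HasTorDimLE A (n + 1) (C ⊗[P] M) ↔ DRing.HasTorDimLE A n (C ⊗[P] (LinearMap.ker g)) := by
  have h1 := baseChange_injective C (Submodule.subtype_injective (LinearMap.ker g))
  have h2 := baseChange_surjective C hg
  have h3 := baseChange_exact C (LinearMap.exact_subtype_ker_map g) hg
  have hAC : Module.Flat A C := Module.Flat.trans A P C
  have hF : Module.Flat A (C ⊗[P] F) := Module.Flat.trans A C _
  exact hasTorDimLE_succ_iff (((LinearMap.ker g).subtype.baseChange C).restrictScalars A)
    ((g.baseChange C).restrictScalars A) h1 h2 h3 n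

/-- Let `P` be a flat finitely presented `A`-algebra and `M` a pseudo-coherent (FP_∞) `P`-module; if `M_q` has
tor dimension `≤ n` over `A` then so has `M_h` for some `h ∉ q`. -/
theorem exists_away [Algebra.FinitePresentation A P] [Module.Flat A P] (q : Ideal P) [q.IsPrime] (n : ℕ) :
    ∀ (M : Type u) [AddCommGroup M] [Module P M] [Module A M] [IsScalarTower A P M] (_ : FPInf P M)
      (_ : DRing.HasTorDimLE A n (Localization.AtPrime q ⊗[P] M)),
      ∃ h : P, h ∉ q ∧ DRing.HasTorDimLE A n (Localization.Away h ⊗[P] M) := by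
  induction n with
  | zero =>
    intro M _ _ _ _ hM h
    rw [hasTorDimLE_zero_iff] at h
    have hfp : Module.FinitePresentation P M := by
      obtain ⟨k, f, hf, hk⟩ := hM 1
      have hk' : Module.Finite P (LinearMap.ker f) := hk
      exact Module.finitePresentation_of_free_of_surjective f hf (Module.Finite.iff_fg.1 hk')
    have h1 : Module.Flat A (LocalizedModule q.primeCompl M) :=
      Module.Flat.of_linearEquiv ((LocalizedModule.equivTensorProduct q.primeCompl M).restrictScalars A)
    obtain ⟨g, hg, h2⟩ := exists_flat_away (R := A) q h1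
    refine ⟨g, hg, hasTorDimLE_zero_iff.2 ?_⟩
    exact Module.Flat.of_linearEquiv
      ((LocalizedModule.equivTensorProduct (Submonoid.powers g) M).symm.restrictScalars A)
  | succ n ih =>
    intro M _ _ _ _ hM h
    obtain ⟨k, g, hg⟩ := (hM.finite).exists_fin' 
    have hq : Module.Flat P (Localization.AtPrime q) := inferInstance
    have h1 := (hasTorDimLE_succ_tensor_iff (A := A) (Localization.AtPrime q) g hg n).1 h
    obtain ⟨b, hb, h2⟩ := ih _ (FPInf.ker g hg (FPInf.of_projective _) hM) h1
    have hq : Module.Flat P (Localization.Away b) := inferInstance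
    exact ⟨b, hb, (hasTorDimLE_succ_tensor_iff (A := A) (Localization.Away b) g hg n).2 h2⟩

/-- `S⁻¹P ⊗_P B` and the localization of the `P`-algebra `B` at the image of `S`. -/
theorem hasTorDimLE_tensor_iff_localization {B : Type u} [CommRing B] [Algebra P B] [Algebra A B]
    [IsScalarTower A P B] (S : Submonoid P) (B' : Type u) [CommRing B'] [Algebra B B'] [Algebra A B']
    [Algebra P B'] [IsScalarTower P B B'] [IsScalarTower A P B']
    [IsLocalization (Algebra.algebraMapSubmonoid B S) B'] (n : ℕ) :
    DRing.HasTorDimLE A n (Localization S ⊗[P] B) ↔ DRing.HasTorDimLE A n B' := by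
  have h1 : IsLocalizedModule S (TensorProduct.mk P (Localization S) B 1) := inferInstance
  have h2 : IsLocalizedModule S (IsScalarTower.toAlgHom P B B').toLinearMap :=
    (isLocalizedModule_iff_isLocalization (R := P) (A := B)).2 inferInstance
  have e := IsLocalizedModule.linearEquiv S (TensorProduct.mk P (Localization S) B 1)
    (IsScalarTower.toAlgHom P B B').toLinearMap
  exact hasTorDimLE_congr (e.restrictScalars A)

/-- Let `A → B` be a pseudo-coherent ring map and `q` a prime of `B` with `B_q` of tor dimension `≤ n` over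
`A`; then `B_b` has tor dimension `≤ n` over `A` for some `b ∉ q`. -/
theorem exists_away_algebra {B : Type u} [CommRing B] [Algebra A B] (hB : PCHom A B) (q : Ideal B) [q.IsPrime]
    (n : ℕ) (h : DRing.HasTorDimLE A n (Localization.AtPrime q)) :
    ∃ b : B, b ∉ q ∧ DRing.HasTorDimLE A n (Localization.Away b) := by
  obtain ⟨k, φ, hφ, hM⟩ := hB
  let _ := φ.toRingHom.toAlgebra
  have : IsScalarTower A (MvPolynomial (Fin k) A) B := IsScalarTower.of_algebraMap_eq' φ.comp_algebraMap.symm
  have hM' : FPInf (MvPolynomial (Fin k) A) B := hM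
  let q' : Ideal (MvPolynomial (Fin k) A) := q.comap φ.toRingHom
  have h1 : Algebra.algebraMapSubmonoid B q'.primeCompl = q.primeCompl := by
    ext b
    constructor
    · rintro ⟨p, hp, rfl⟩
      exact hp
    · intro hb
      obtain ⟨p, rfl⟩ := hφ b
      exact ⟨p, hb, rfl⟩
  have h2 : IsLocalization (Algebra.algebraMapSubmonoid B q'.primeCompl) (Localization.AtPrime q) := by
    rw [h1]; infer_instance
  have h3 := (hasTorDimLE_tensor_iff_localization (A := A) (P := MvPolynomial (Fin k) A) (B := B)
    q'.primeCompl (Localization.AtPrime q) n).2 h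
  obtain ⟨p, hp, h4⟩ := exists_away (A := A) q' n B hM' h3
  refine ⟨φ p, hp, ?_⟩
  have h5 : IsLocalization (Algebra.algebraMapSubmonoid B (Submonoid.powers p)) (Localization.Away (φ p)) := by
    have : Algebra.algebraMapSubmonoid B (Submonoid.powers p) = Submonoid.powers (φ p) :=
      Submonoid.map_powers _ _
    rw [this]; infer_instance
  exact (hasTorDimLE_tensor_iff_localization (A := A) (P := MvPolynomial (Fin k) A) (B := B)
    (Submonoid.powers p) (Localization.Away (φ p)) n).1 h4

section Stalks

variable {B O O' : Type u} [CommRing B] [CommRing O] [CommRing O'] [Algebra A B] [Algebra A O] [Algebra B O']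
  [Algebra O O'] [Algebra A O'] [IsScalarTower A B O'] [IsScalarTower A O O']

theorem hasTorDimLE_stalk (S : Submonoid A) [IsLocalization S O] (q : Ideal B) [q.IsPrime]
    [IsLocalization.AtPrime O' q] {n : ℕ} (h : DRing.HasTorDimLE A n B) : DRing.HasTorDimLE O n O' := by
  have hfl : Module.Flat B O' := IsLocalization.flat O' q.primeCompl
  have h1 : DRing.HasTorDimLE A n (O' ⊗[B] B) := HasTorDimLE.tensor_flat (A := A) (B := B) (C := O') h
  have h2 : DRing.HasTorDimLE A n O' :=
    HasTorDimLE.of_linearEquiv ((TensorProduct.rid B O').restrictScalars A) h1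
  exact (hasTorDimLE_localization_iff S O n).1 h2

theorem exists_away_of_stalk (S : Submonoid A) [IsLocalization S O] (hB : PCHom A B) (q : Ideal B) [q.IsPrime]
    [IsLocalization.AtPrime O' q] {n : ℕ} (h : DRing.HasTorDimLE O n O') :
    ∃ b : B, b ∉ q ∧ DRing.HasTorDimLE A n (Localization.Away b) := by
  have h1 : DRing.HasTorDimLE A n O' := (hasTorDimLE_localization_iff S O n).2 h
  have h2 : DRing.HasTorDimLE A n (Localization.AtPrime q) :=
    HasTorDimLE.of_linearEquiv ((IsLocalization.algEquiv q.primeCompl O'
      (Localization.AtPrime q)).toLinearEquiv.restrictScalars A) h1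
  exact exists_away_algebra hB q n h2

end Stalks

end K250.TorOpen
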