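import Groth.Agent.Flat2F.WeaklyEtaleLocal

/-!
# Weakly étale morphisms on pairs of affine opens
-/

set_option autoImplicit false
universe u

open AlgebraicGeometry CategoryTheory Limits

namespace K250.WEAffine

open Groth.Agent.Flat2F.WeaklyEtaleLocal

/-- the class `Algebra.WeaklyEtale` in terms of `WE` -/
theorem we_iff {A B : Type u} [CommRing A] [CommRing B] (φ : A →+* B) :
    WE φ ↔ (letI := φ.toAlgebra; Algebra.WeaklyEtale A B) := by
  letI := φ.toAlgebra
  exact ⟨fun h => ⟨h.1, h.2⟩, fun h => ⟨h.flat, h.flat_lmul'⟩⟩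

/-- A weakly étale morphism induces weakly étale ring maps on all pairs of affine opens. -/
theorem we_appLE {X S : Scheme.{u}} (f : X ⟶ S) [hf : AlgebraicGeometry.WeaklyEtale f] {U : X.Opens} {V : S.Opens}
    (hU : IsAffineOpen U) (hV : IsAffineOpen V) (hUV : U ≤ f ⁻¹ᵁ V) : WE (f.appLE V U hUV).hom := by
  rw [← weaklyEtale_SpecMap_iff]
  have : AlgebraicGeometry.WeaklyEtale (Spec.map (f.appLE V U hUV) ≫ hV.fromSpec) := by
    rw [IsAffineOpen.SpecMap_appLE_fromSpec f hV hU hUV]; infer_instance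
  exact AlgebraicGeometry.WeaklyEtale.of_comp _ hV.fromSpec

/-- Weak étaleness may be checked on affine opens near every point. -/
theorem weaklyEtale_of_exists {X S : Scheme.{u}} (f : X ⟶ S)
    (h : ∀ x : X, ∃ (U : X.Opens) (V : S.Opens) (_ : IsAffineOpen U) (_ : IsAffineOpen V) (hUV : U ≤ f ⁻¹ᵁ V),
      x ∈ U ∧ WE (f.appLE V U hUV).hom) : AlgebraicGeometry.WeaklyEtale f := by
  rw [IsZariskiLocalAtSource.iff_exists_resLE (P := @AlgebraicGeometry.WeaklyEtale)]
  intro x
  obtain ⟨U, V, hU, hV, hUV, hxU, h1⟩ := h x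
  refine ⟨V, U, hxU, hUV, ?_⟩
  have h1 : AlgebraicGeometry.WeaklyEtale (Spec.map (f.appLE V U hUV)) := by
    rw [weaklyEtale_SpecMap_iff]; exact h1
  have h2 : hU.isoSpec.hom ≫ Spec.map (f.appLE V U hUV) = f.resLE V U hUV ≫ hV.isoSpec.hom := by
    rw [IsAffineOpen.isoSpec_hom, IsAffineOpen.isoSpec_hom]
    exact Scheme.Opens.toSpecΓ_SpecMap_appLE f V U hUV
  rw [← MorphismProperty.cancel_right_of_respectsIso (P := @AlgebraicGeometry.WeaklyEtale) _ hV.isoSpec.hom,
    ← h2]
  infer_instance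

end K250.WEAffine
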